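import Mathlib
import Cfsg.Agent.Lib.Helper5.Herm
import Cfsg.Prelude.Def_LieRecognition

/-!
The Sylow 2-subgroup of `SU₃(q)`, `q` even, abstractly: a group coordinatised by pairs `(a, b)` with
`b + b^q = a a^q` and product `(a, b)(a', b') = (a + a', b + b' + a a'^q)` is a Suzuki 2-group of
order `q³` with centre of order `q` (author: helper5, generalising S1248).
-/

set_option autoImplicit false

namespace Cfsg.Agent.Lib.Helper5.U3Even

open Cfsg Cfsg.Agent.Lib.Helper5

section field

variable {F : Type*} [Field F] [Fintype F] {q : ℕ}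

theorem two_eq_zero (hq : Even q) (hF : Fintype.card F = q ^ 2) : (2 : F) = 0 := by
  have hchar : ringChar F = 2 := by
    apply FiniteField.even_card_iff_char_two.mpr
    rw [hF]
    obtain ⟨k, hk⟩ := hq
    rw [hk]
    have : (k + k) ^ 2 = 2 * (2 * k ^ 2) := by ring
    rw [this]
    exact Nat.mul_mod_right _ _
  have : CharP F 2 := ringChar.of_eq hchar
  exact CharTwo.two_eq_zero

theorem dbl (hq : Even q) (hF : Fintype.card F = q ^ 2) (t : F) : t + t = 0 := by
  have : t + t = 2 * t := by ring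
  rw [this, two_eq_zero hq hF, zero_mul]

theorem exists_not_fixed (hF : Fintype.card F = q ^ 2) : ∃ w : F, w ^ q ≠ w := by
  classical
  have hq1 := Herm.one_lt_q hF
  obtain ⟨g, hg⟩ := IsCyclic.exists_generator (α := Fˣ)
  have hord : orderOf g = q ^ 2 - 1 := by
    rw [orderOf_eq_card_of_forall_mem_zpowers hg, Nat.card_eq_fintype_card, Fintype.card_units, hF]
  refine ⟨(g : F), fun h => ?_⟩
  have h3 : g ^ (q - 1) = 1 := by
    apply Units.ext
    rw [Units.val_pow_eq_pow_val, Units.val_one]
    have hne : (g : F) ≠ 0 := g.ne_zero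
    have : (g : F) * (g : F) ^ (q - 1) = (g : F) * 1 := by
      rw [mul_one, ← pow_succ', Nat.sub_add_cancel (by omega)]
      exact h
    exact mul_left_cancel₀ hne this
  have hdvd := orderOf_dvd_of_pow_eq_one h3
  rw [hord] at hdvd
  have hle := Nat.le_of_dvd (by omega) hdvd
  have h5 : 2 * q ≤ q ^ 2 := by nlinarith
  generalize q ^ 2 = Q at *
  omega

/-- the "trace" `x ↦ x + x^q` hits every fixed point of the Frobenius -/
theorem exists_trace (hq : Even q) (hF : Fintype.card F = q ^ 2) (t : F) (ht : t ^ q = t) :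
    ∃ x : F, x + x ^ q = t := by
  obtain ⟨w, hw⟩ := exists_not_fixed hF
  have h2 := two_eq_zero hq hF
  set s : F := w + w ^ q with hs
  have hs0 : s ≠ 0 := by
    intro h
    apply hw
    have : w ^ q = w + (w + w ^ q) - 2 * w := by ring
    rw [this, ← hs, h, h2]
    ring
  have hs4 : s ^ q = s := by
    rw [hs, Herm.frob_add hF, Herm.frob_frob hF]
    ring
  refine ⟨t * s⁻¹ * w, ?_⟩
  have : (t * s⁻¹ * w) ^ q = t * s⁻¹ * w ^ q := by
    rw [mul_pow, mul_pow, inv_pow, ht, hs4]
  rw [this]
  have : t * s⁻¹ * w + t * s⁻¹ * w ^ q = t * s⁻¹ * s := by rw [hs]; ring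
  rw [this, mul_assoc, inv_mul_cancel₀ hs0, mul_one]

theorem norm_fixed (hF : Fintype.card F = q ^ 2) (a : F) : (a * a ^ q) ^ q = a * a ^ q := by
  rw [mul_pow, Herm.frob_frob hF]
  ring

theorem exists_b (hq : Even q) (hF : Fintype.card F = q ^ 2) (a : F) :
    ∃ b : F, b + b ^ q = a * a ^ q :=
  exists_trace hq hF _ (norm_fixed hF a)

theorem fix_iff (hq : Even q) (hF : Fintype.card F = q ^ 2) (t : F) :
    t + t ^ q = 0 ↔ t ^ q = t := by
  have h2 := two_eq_zero hq hF
  constructor
  · intro h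
    have : t ^ q = (t + t ^ q) - 2 * t + t := by ring
    rw [this, h, h2]; ring
  · intro h
    rw [h]
    exact dbl hq hF t

/-- the fixed field has `q` elements -/
theorem card_fixed (hq : Even q) (hF : Fintype.card F = q ^ 2) :
    Nat.card {t : F // t + t ^ q = 0} = q := by
  classical
  let T : F →+ F :=
    { toFun := fun x => x + x ^ q
      map_zero' := by
        have := Herm.one_lt_q hF
        rw [zero_pow (by omega), add_zero]
      map_add' := fun x y => by rw [Herm.frob_add hF]; ring }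
  have hker : ∀ t : F, t ∈ T.ker ↔ t + t ^ q = 0 := fun t => Iff.rfl
  have hrange : T.range = T.ker := by
    ext t
    rw [hker, fix_iff hq hF]
    constructor
    · rintro ⟨x, rfl⟩
      show (x + x ^ q) ^ q = x + x ^ q
      rw [Herm.frob_add hF, Herm.frob_frob hF]; ring
    · intro h
      obtain ⟨x, hx⟩ := exists_trace hq hF t h
      exact ⟨x, hx⟩
  have h1 := AddSubgroup.card_eq_card_quotient_mul_card_addSubgroup T.ker
  have h3 : Nat.card (F ⧸ T.ker) = Nat.card T.range :=
    Nat.card_congr (QuotientAddGroup.quotientKerEquivRange T).toEquiv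
  rw [h3, hrange, Nat.card_eq_fintype_card, hF] at h1
  have h4 : Nat.card {t : F // t + t ^ q = 0} = Nat.card T.ker := rfl
  rw [h4]
  have h5 : Nat.card T.ker ^ 2 = q ^ 2 := by rw [h1]; ring
  exact Nat.pow_left_injective (by norm_num : 2 ≠ 0) h5

/-- square roots in the fixed field -/
theorem exists_sqrt_fixed (hq : Even q) (hF : Fintype.card F = q ^ 2) (t : F) (ht : t ^ q = t) :
    ∃ s : F, s ^ q = s ∧ s * s = t := by
  have h2 := two_eq_zero hq hF
  have hchar : ringChar F = 2 := by
    have : CharP F 2 := by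
      refine CharTwo.of_one_ne_zero_of_two_eq_zero one_ne_zero ?_
      exact_mod_cast h2
    exact ringChar.eq F 2
  obtain ⟨s, hs⟩ := FiniteField.isSquare_of_char_two hchar t
  refine ⟨s, ?_, hs.symm⟩
  have h1 : (s ^ q) * (s ^ q) = s * s := by
    rw [← mul_pow, ← hs, ht]
  have h3 : (s ^ q - s) * (s ^ q - s) = 0 := by
    linear_combination h1 + (s * s - s ^ q * s) * h2
  have := mul_self_eq_zero.1 h3
  exact sub_eq_zero.1 this

/-- a fixed element other than `0` and `1` -/
theorem exists_fixed_ne (hq4 : 4 ≤ q) (hF : Fintype.card F = q ^ 2) :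
    ∃ t : F, t ^ q = t ∧ t ≠ 0 ∧ t ≠ 1 := by
  classical
  obtain ⟨g, hg⟩ := IsCyclic.exists_generator (α := Fˣ)
  have hord : orderOf g = q ^ 2 - 1 := by
    rw [orderOf_eq_card_of_forall_mem_zpowers hg, Nat.card_eq_fintype_card, Fintype.card_units, hF]
  refine ⟨(g : F) ^ (q + 1), ?_, pow_ne_zero _ g.ne_zero, ?_⟩
  · rw [← pow_mul]
    have h1 : (q + 1) * q = (q + 1) + (q ^ 2 - 1) := by
      have : 1 ≤ q ^ 2 := Nat.one_le_pow _ _ (by omega)
      zify [this]
      ring
    rw [h1, pow_add]
    have h2 : (g : F) ^ (q ^ 2 - 1) = 1 := by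
      rw [← hF]
      exact FiniteField.pow_card_sub_one_eq_one _ g.ne_zero
    rw [h2, mul_one]
  · intro h
    have h3 : g ^ (q + 1) = 1 := by
      apply Units.ext
      rw [Units.val_pow_eq_pow_val, Units.val_one]
      exact h
    have hdvd := orderOf_dvd_of_pow_eq_one h3
    rw [hord] at hdvd
    have hle := Nat.le_of_dvd (by omega) hdvd
    have h5 : 4 * q ≤ q ^ 2 := by nlinarith
    generalize q ^ 2 = Q at *
    omega

end field

/-- coordinates on a group making it the Sylow 2-subgroup of `SU₃(q)` -/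
structure Coords (F : Type*) [Field F] (q : ℕ) (X : Type*) [Group X] where
  a : X → F
  b : X → F
  ha : ∀ x y, a (x * y) = a x + a y
  hb : ∀ x y, b (x * y) = b x + b y + a x * (a y) ^ q
  hinj : ∀ x y, a x = a y → b x = b y → x = y
  hcond : ∀ x, b x + (b x) ^ q = a x * (a x) ^ q
  hsurj : ∀ a0 b0 : F, b0 + b0 ^ q = a0 * a0 ^ q → ∃ x, a x = a0 ∧ b x = b0

namespace Coords

variable {F : Type*} [Field F] [Fintype F] {q : ℕ} {X : Type*} [Group X] (c : Coords F q X)

omit [Fintype F] in
theorem a_one : c.a 1 = 0 := by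
  have := c.ha 1 1
  rw [mul_one] at this
  have h : c.a 1 = c.a 1 + c.a 1 - c.a 1 := by ring
  rw [h, ← this]; ring

omit [Fintype F] in
theorem b_one : c.b 1 = 0 := by
  have := c.hb 1 1
  rw [mul_one, c.a_one, zero_mul, add_zero] at this
  have h : c.b 1 = c.b 1 + c.b 1 - c.b 1 := by ring
  rw [h, ← this]; ring

omit [Fintype F] in
theorem eq_one (x : X) (h1 : c.a x = 0) (h2 : c.b x = 0) : x = 1 :=
  c.hinj x 1 (by rw [h1, c.a_one]) (by rw [h2, c.b_one])

/-- the hom to `F` -/
def alpha : X →* Multiplicative F where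
  toFun x := Multiplicative.ofAdd (c.a x)
  map_one' := by rw [c.a_one]; rfl
  map_mul' x y := by rw [c.ha]; rfl

omit [Fintype F] in
theorem mem_alpha_ker (x : X) : x ∈ c.alpha.ker ↔ c.a x = 0 := by
  rw [MonoidHom.mem_ker]
  show Multiplicative.ofAdd (c.a x) = 1 ↔ _
  exact ⟨fun h => by simpa using congrArg Multiplicative.toAdd h, fun h => by rw [h]; rfl⟩

theorem alpha_surj (hq : Even q) (hF : Fintype.card F = q ^ 2) : Function.Surjective c.alpha := by
  intro y
  obtain ⟨b0, hb0⟩ := exists_b hq hF (Multiplicative.toAdd y)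
  obtain ⟨x, hx, _⟩ := c.hsurj _ b0 hb0
  exact ⟨x, by show Multiplicative.ofAdd (c.a x) = y; rw [hx]; rfl⟩

theorem mem_center_iff (hq : Even q) (hF : Fintype.card F = q ^ 2) (x : X) :
    x ∈ Subgroup.center X ↔ c.a x = 0 := by
  rw [Subgroup.mem_center_iff]
  constructor
  · intro hx
    by_contra hne
    obtain ⟨w, hw⟩ := exists_not_fixed hF
    obtain ⟨b0, hb0⟩ := exists_b hq hF (c.a x * w)
    obtain ⟨y, hy, _⟩ := c.hsurj _ b0 hb0
    have h1 := congrArg c.b (hx y)
    rw [c.hb, c.hb, hy] at h1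
    apply hw
    have h3 : c.a x * w * (c.a x) ^ q = c.a x * (c.a x * w) ^ q := by
      linear_combination h1
    have h4 : c.a x * (c.a x) ^ q ≠ 0 := mul_ne_zero hne (pow_ne_zero q hne)
    apply mul_left_cancel₀ h4
    rw [mul_pow] at h3
    linear_combination -h3
  · intro hx y
    have hq1 := Herm.one_lt_q hF
    apply c.hinj
    · rw [c.ha, c.ha]; ring
    · rw [c.hb, c.hb, hx, zero_pow (by omega)]; ring

theorem center_eq_ker (hq : Even q) (hF : Fintype.card F = q ^ 2) :
    Subgroup.center X = c.alpha.ker := by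
  ext x
  rw [c.mem_center_iff hq hF, c.mem_alpha_ker]

theorem sq_eq_one_iff (hq : Even q) (hF : Fintype.card F = q ^ 2) (x : X) :
    x * x = 1 ↔ c.a x = 0 := by
  constructor
  · intro h
    have h1 := congrArg c.b h
    rw [c.hb, c.b_one] at h1
    have h5 : c.a x * (c.a x) ^ q = 0 := by
      have := dbl hq hF (c.b x)
      linear_combination h1 - this
    rcases mul_eq_zero.1 h5 with h | h
    · exact h
    · have hq1 := Herm.one_lt_q hF
      exact pow_eq_zero_iff (by omega) |>.1 h
  · intro hx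
    apply c.eq_one
    · rw [c.ha, hx]; ring
    · rw [c.hb, hx]
      have := dbl hq hF (c.b x)
      linear_combination this

include c in
theorem card_quot [Finite X] (hq : Even q) (hF : Fintype.card F = q ^ 2) :
    Nat.card (X ⧸ Subgroup.center X) = q ^ 2 := by
  have e1 : X ⧸ Subgroup.center X ≃* X ⧸ c.alpha.ker :=
    QuotientGroup.quotientMulEquivOfEq (c.center_eq_ker hq hF)
  have e2 : X ⧸ c.alpha.ker ≃* Multiplicative F :=
    QuotientGroup.quotientKerEquivOfSurjective c.alpha (c.alpha_surj hq hF)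
  rw [Nat.card_congr (e1.trans e2).toEquiv]
  show Nat.card F = q ^ 2
  rw [Nat.card_eq_fintype_card, hF]

include c in
theorem card_center (hq : Even q) (hF : Fintype.card F = q ^ 2) :
    Nat.card (Subgroup.center X) = q := by
  rw [← card_fixed hq hF]
  refine Nat.card_congr (Equiv.ofBijective
    (fun x => ⟨c.b x.1, by
      have := c.hcond x.1
      rw [(c.mem_center_iff hq hF x.1).1 x.2] at this
      rw [this]; ring⟩) ⟨?_, ?_⟩)
  · intro x y hxy
    apply Subtype.ext
    apply c.hinj
    · rw [(c.mem_center_iff hq hF x.1).1 x.2, (c.mem_center_iff hq hF y.1).1 y.2]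
    · exact congrArg Subtype.val hxy
  · rintro ⟨t, ht⟩
    obtain ⟨x, hx, hx'⟩ := c.hsurj 0 t (by rw [ht]; ring)
    exact ⟨⟨x, (c.mem_center_iff hq hF x).2 hx⟩, Subtype.ext hx'⟩

include c in
theorem card_eq [Finite X] (hq : Even q) (hF : Fintype.card F = q ^ 2) : Nat.card X = q ^ 3 := by
  rw [Subgroup.card_eq_card_quotient_mul_card_subgroup (Subgroup.center X), c.card_quot hq hF,
    c.card_center hq hF]
  ring

/-! ### the torus automorphisms -/

omit [Fintype F] in
theorem scale_cond (hfrob : ∀ z : F, (z ^ q) ^ q = z) (l : F) (x : X) :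
    l * l ^ q * c.b x + (l * l ^ q * c.b x) ^ q = l * c.a x * (l * c.a x) ^ q := by
  have := c.hcond x
  rw [mul_pow, mul_pow, mul_pow, hfrob]
  linear_combination (l * l ^ q) * this

/-- the scaling map -/
noncomputable def phi (hfrob : ∀ z : F, (z ^ q) ^ q = z) (l : F) (x : X) : X :=
  Classical.choose (c.hsurj _ _ (c.scale_cond hfrob l x))

omit [Fintype F] in
theorem phi_a (hfrob : ∀ z : F, (z ^ q) ^ q = z) (l : F) (x : X) :
    c.a (c.phi hfrob l x) = l * c.a x :=
  (Classical.choose_spec (c.hsurj _ _ (c.scale_cond hfrob l x))).1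

omit [Fintype F] in
theorem phi_b (hfrob : ∀ z : F, (z ^ q) ^ q = z) (l : F) (x : X) :
    c.b (c.phi hfrob l x) = l * l ^ q * c.b x :=
  (Classical.choose_spec (c.hsurj _ _ (c.scale_cond hfrob l x))).2

omit [Fintype F] in
theorem phi_mul (hfrob : ∀ z : F, (z ^ q) ^ q = z) (l : F) (x y : X) :
    c.phi hfrob l (x * y) = c.phi hfrob l x * c.phi hfrob l y := by
  apply c.hinj
  · rw [c.phi_a, c.ha, c.ha, c.phi_a, c.phi_a]; ring
  · rw [c.phi_b, c.hb, c.hb, c.phi_b, c.phi_b, c.phi_a, c.phi_a, mul_pow]; ring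

omit [Fintype F] in
theorem phi_phi (hfrob : ∀ z : F, (z ^ q) ^ q = z) (l l' : F) (x : X) :
    c.phi hfrob l (c.phi hfrob l' x) = c.phi hfrob (l * l') x := by
  apply c.hinj
  · rw [c.phi_a, c.phi_a, c.phi_a]; ring
  · rw [c.phi_b, c.phi_b, c.phi_b, mul_pow]; ring

omit [Fintype F] in
theorem phi_one (hfrob : ∀ z : F, (z ^ q) ^ q = z) (x : X) : c.phi hfrob 1 x = x := by
  apply c.hinj
  · rw [c.phi_a, one_mul]
  · rw [c.phi_b, one_pow, one_mul, one_mul]

/-- the scaling automorphisms -/
noncomputable def phiAut (hfrob : ∀ z : F, (z ^ q) ^ q = z) (l : Fˣ) : MulAut X where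
  toFun := c.phi hfrob (l : F)
  invFun := c.phi hfrob ((l⁻¹ : Fˣ) : F)
  left_inv x := by rw [c.phi_phi, ← Units.val_mul, inv_mul_cancel, Units.val_one, c.phi_one]
  right_inv x := by rw [c.phi_phi, ← Units.val_mul, mul_inv_cancel, Units.val_one, c.phi_one]
  map_mul' := c.phi_mul hfrob (l : F)

omit [Fintype F] in
theorem phiAut_apply (hfrob : ∀ z : F, (z ^ q) ^ q = z) (l : Fˣ) (x : X) :
    c.phiAut hfrob l x = c.phi hfrob (l : F) x := rfl

/-- the torus as a group of automorphisms -/
noncomputable def phiHom (hfrob : ∀ z : F, (z ^ q) ^ q = z) : Fˣ →* MulAut X where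
  toFun := c.phiAut hfrob
  map_one' := by
    ext x
    rw [phiAut_apply, Units.val_one, c.phi_one]
    rfl
  map_mul' l l' := by
    ext x
    rw [phiAut_apply, Units.val_mul, ← c.phi_phi]
    rfl

/-- the units of the fixed field -/
def fixU (F : Type*) [Field F] (q : ℕ) : Subgroup Fˣ where
  carrier := {l | (l : F) ^ q = l}
  one_mem' := by simp
  mul_mem' := by
    intro x y hx hy
    show ((x * y : Fˣ) : F) ^ q = _
    rw [Units.val_mul, mul_pow, hx, hy]
  inv_mem' := by
    intro x hx
    show ((x⁻¹ : Fˣ) : F) ^ q = _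
    rw [Units.val_inv_eq_inv_val, inv_pow, hx]

include c in
theorem isSuzuki [Finite X] {n : ℕ} (hn : 2 ≤ n) (hqn : q = 2 ^ n)
    (hF : Fintype.card F = q ^ 2) : Cfsg.IsSuzukiTwoGroup X := by
  classical
  have hq : Even q := by
    rw [hqn]
    exact (Nat.even_pow' (by omega)).2 even_two
  have hq4 : 4 ≤ q := by
    rw [hqn]
    calc 4 = 2 ^ 2 := by norm_num
      _ ≤ 2 ^ n := Nat.pow_le_pow_right (by norm_num) hn
  have hfrob : ∀ z : F, (z ^ q) ^ q = z := Herm.frob_frob hF
  have h2 := two_eq_zero hq hF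
  refine ⟨inferInstance, ?_, ?_, ?_, ?_⟩
  · apply IsPGroup.of_card (n := 3 * n)
    rw [c.card_eq hq hF, hqn, ← pow_mul, mul_comm]
  · -- non-commuting
    obtain ⟨b0, hb0⟩ := exists_b hq hF (1 : F)
    obtain ⟨x, hx, _⟩ := c.hsurj 1 b0 hb0
    have hxc : x ∉ Subgroup.center X := by
      rw [c.mem_center_iff hq hF, hx]
      exact one_ne_zero
    rw [Subgroup.mem_center_iff] at hxc
    push Not at hxc
    obtain ⟨y, hy⟩ := hxc
    exact ⟨y, x, hy⟩
  · -- two involutions
    obtain ⟨t, ht, ht0, ht1⟩ := exists_fixed_ne hq4 hF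
    obtain ⟨x, hxa, hxb⟩ := c.hsurj 0 1 (by
      have hq1 := Herm.one_lt_q hF
      rw [one_pow, zero_pow (by omega), mul_zero]
      exact dbl hq hF 1)
    obtain ⟨y, hya, hyb⟩ := c.hsurj 0 t (by
      have hq1 := Herm.one_lt_q hF
      rw [ht, zero_pow (by omega), mul_zero]
      exact dbl hq hF t)
    refine ⟨x, y, ?_, ?_, (c.sq_eq_one_iff hq hF x).2 hxa, ?_, (c.sq_eq_one_iff hq hF y).2 hya⟩
    · intro h
      apply ht1
      rw [← hyb, ← h, hxb]
    · intro h
      rw [h, c.b_one] at hxb
      exact zero_ne_one hxb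
    · intro h
      rw [h, c.b_one] at hyb
      exact ht0 hyb.symm
  · -- the cyclic group
    refine ⟨(fixU F q).map (c.phiHom hfrob), ?_, ?_⟩
    · have hcyc : IsCyclic (fixU F q) := inferInstance
      exact isCyclic_of_surjective ((c.phiHom hfrob).subgroupMap (fixU F q))
        ((c.phiHom hfrob).subgroupMap_surjective (fixU F q))
    · intro x y hx1 hx2 hy1 hy2
      have hxa := (c.sq_eq_one_iff hq hF x).1 hx2
      have hya := (c.sq_eq_one_iff hq hF y).1 hy2
      have hxb0 : c.b x ≠ 0 := fun h => hx1 (c.eq_one x hxa h)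
      have hyb0 : c.b y ≠ 0 := fun h => hy1 (c.eq_one y hya h)
      have hq1 := Herm.one_lt_q hF
      have hxfix : (c.b x) ^ q = c.b x := by
        rw [← fix_iff hq hF]
        have := c.hcond x
        rw [hxa, zero_mul] at this
        exact this
      have hyfix : (c.b y) ^ q = c.b y := by
        rw [← fix_iff hq hF]
        have := c.hcond y
        rw [hya, zero_mul] at this
        exact this
      have htfix : (c.b y / c.b x) ^ q = c.b y / c.b x := by
        rw [div_pow, hxfix, hyfix]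
      obtain ⟨s, hs, hss⟩ := exists_sqrt_fixed hq hF _ htfix
      have hs0 : s ≠ 0 := by
        rintro rfl
        rw [mul_zero] at hss
        exact div_ne_zero hyb0 hxb0 hss.symm
      have hmem : Units.mk0 s hs0 ∈ fixU F q := hs
      refine ⟨⟨c.phiHom hfrob (Units.mk0 s hs0), Subgroup.mem_map_of_mem _ hmem⟩, ?_, ?_⟩
      · show c.phi hfrob s x = y
        apply c.hinj
        · rw [c.phi_a, hxa, hya, mul_zero]
        · rw [c.phi_b, hs, hss]
          field_simp
      · rintro ⟨k, l, hl, rfl⟩ hk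
        apply Subtype.ext
        show c.phiHom hfrob l = c.phiHom hfrob (Units.mk0 s hs0)
        congr 1
        apply Units.ext
        show (l : F) = s
        have hl' : (l : F) ^ q = l := hl
        have hk' : c.phi hfrob (l : F) x = y := hk
        have hb := congrArg c.b hk'
        rw [c.phi_b, hl'] at hb
        have h5 : (l : F) * l = s * s := by
          rw [hss]
          field_simp
          linear_combination hb
        have h6 : ((l : F) - s) * ((l : F) - s) = 0 := by
          linear_combination h5 + (s * s - l * s) * h2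
        exact sub_eq_zero.1 (mul_self_eq_zero.1 h6)

end Coords

end Cfsg.Agent.Lib.Helper5.U3Even
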