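import Mathlib
import Cfsg.Agent.Lib.Helper5.U3Even.Core
import Cfsg.Agent.Lib.Helper5.HermCount

/-!
An additive involution `A` of `F_{q²}` (`q` even) carrying norm fibres to norm fibres, compatibly with an
additive map `C` of `F_q`, forces `C = id`: the form `u ↦ ψ(N u)` is elliptic, so has no totally
singular subspace of order `≥ q` (author: helper5).
-/

set_option autoImplicit false

namespace Cfsg.Agent.Lib.Helper5.U3Even

open Cfsg Cfsg.Agent.Lib.Helper5

/-- a sum of a nontrivial `±1` character is zero -/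
theorem sum_sign_eq_zero {G : Type*} [AddGroup G] [Fintype G] (χ : G → ℤ)
    (hadd : ∀ x y, χ (x + y) = χ x * χ y) (x₁ : G) (h1 : χ x₁ = -1) : ∑ x, χ x = 0 := by
  have h : ∑ x, χ x = ∑ x, χ (x + x₁) := (Equiv.sum_comp (Equiv.addRight x₁) χ).symm
  simp_rw [hadd, h1] at h
  rw [← Finset.sum_mul] at h
  linarith

theorem zmod2_cases : ∀ a : ZMod 2, a = 0 ∨ a = 1 := by decide
theorem zmod2_one_add_one : (1 : ZMod 2) + 1 = 0 := by decide
theorem zmod2_one_ne_zero : (1 : ZMod 2) ≠ 0 := by decide

section
variable {F : Type*} [Field F] [Fintype F] {q : ℕ}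

/-- existence of a `±1` character trivial on a subgroup and nontrivial at a given point -/
theorem exists_sign (h2 : (2 : F) = 0) (D : AddSubgroup F) (t₀ : F) (ht₀ : t₀ ∉ D) :
    ∃ ψ : F → ℤ, (∀ x y, ψ (x + y) = ψ x * ψ y) ∧ (∀ x, ψ x = 1 ∨ ψ x = -1) ∧
      (∀ x ∈ D, ψ x = 1) ∧ ψ t₀ = -1 := by
  classical
  let _ : Module (ZMod 2) F := AddCommGroup.zmodModule (n := 2) (G := F) (fun x => by
    rw [two_nsmul]
    linear_combination x * h2)
  have : Fact (Nat.Prime 2) := ⟨Nat.prime_two⟩
  obtain ⟨f, hf, hfp⟩ := Submodule.exists_dual_map_eq_bot_of_notMem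
    (p := AddSubgroup.toZModSubmodule 2 D) (x := t₀) ht₀ inferInstance
  have hz := zmod2_cases
  have h11 := zmod2_one_add_one
  have h10 := zmod2_one_ne_zero
  refine ⟨fun x => if f x = 0 then 1 else -1, ?_, ?_, ?_, ?_⟩
  · intro x y
    simp only [map_add]
    rcases hz (f x) with hx | hx <;> rcases hz (f y) with hy | hy <;> simp [hx, hy, h11, h10]
  · intro x
    by_cases h : f x = 0
    · left; simp [h]
    · right; simp [h]
  · intro x hx
    have : f x ∈ (AddSubgroup.toZModSubmodule 2 D).map f := Submodule.mem_map_of_mem hx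
    rw [hfp, Submodule.mem_bot] at this
    simp [this]
  · simp [hf]

/-- regrouping an integer sum along the norm map -/
theorem sum_normZ [DecidableEq F] (hF : Fintype.card F = q ^ 2) (f : F → ℤ) :
    ∑ x : F, f (x ^ (q + 1)) =
      f 0 + ((q : ℤ) + 1) * ∑ d ∈ Finset.univ.filter (fun d : F => d ≠ 0 ∧ d ^ q = d), f d := by
  rw [← Finset.sum_fiberwise Finset.univ (fun x : F => x ^ (q + 1)) (fun x => f (x ^ (q + 1)))]
  have h1 : ∀ d : F, ∑ x ∈ Finset.univ.filter (fun x : F => x ^ (q + 1) = d), f (x ^ (q + 1)) =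
      (if d = 0 then f 0 else 0) + (if d ≠ 0 ∧ d ^ q = d then ((q : ℤ) + 1) * f d else 0) := by
    intro d
    have h2 : ∑ x ∈ Finset.univ.filter (fun x : F => x ^ (q + 1) = d), f (x ^ (q + 1)) =
        ∑ x ∈ Finset.univ.filter (fun x : F => x ^ (q + 1) = d), f d := by
      apply Finset.sum_congr rfl
      intro x hx
      rw [(Finset.mem_filter.mp hx).2]
    rw [h2, Finset.sum_const, HermCount.card_norm_fiber hF d, nsmul_eq_mul]
    by_cases h0 : d = 0
    · subst h0; simp
    · by_cases hd : d ^ q = d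
      · simp [h0, hd]
      · simp [h0, hd]
  rw [Finset.sum_congr rfl (fun d _ => h1 d), Finset.sum_add_distrib, Finset.sum_ite_eq',
    if_pos (Finset.mem_univ _), ← Finset.sum_filter, Finset.mul_sum]

/-- the sum of a sign character, nontrivial on the fixed field, over the norms is `-q` -/
theorem sum_sign_norm (hF : Fintype.card F = q ^ 2) (ψ : F → ℤ)
    (hadd : ∀ x y, ψ (x + y) = ψ x * ψ y) (h0 : ψ 0 = 1) (t₀ : F) (ht₀ : t₀ ^ q = t₀)
    (h1 : ψ t₀ = -1) : ∑ x : F, ψ (x ^ (q + 1)) = -(q : ℤ) := by
  classical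
  have hq1 := Herm.one_lt_q hF
  rw [sum_normZ hF ψ, h0]
  -- the sum over the fixed field
  let F0 : AddSubgroup F :=
    { carrier := {t | t ^ q = t}
      zero_mem' := by show (0 : F) ^ q = 0; rw [zero_pow (by omega)]
      add_mem' := by
        intro s t hs ht
        show (s + t) ^ q = s + t
        rw [Herm.frob_add hF, show s ^ q = s from hs, show t ^ q = t from ht]
      neg_mem' := by
        intro s hs
        show (-s) ^ q = -s
        rw [Herm.frob_neg hF, show s ^ q = s from hs] }
  have hsub : ∑ d ∈ Finset.univ.filter (fun d : F => d ^ q = d), ψ d = 0 := by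
    rw [Finset.sum_subtype (p := fun d : F => d ∈ F0) (Finset.univ.filter (fun d : F => d ^ q = d))
      (fun x => by simp [F0]) ψ]
    exact sum_sign_eq_zero (G := F0) (fun d => ψ d.1) (fun x y => hadd x.1 y.1) ⟨t₀, ht₀⟩ h1
  have hsplit : ∑ d ∈ Finset.univ.filter (fun d : F => d ^ q = d), ψ d =
      ∑ d ∈ Finset.univ.filter (fun d : F => d ≠ 0 ∧ d ^ q = d), ψ d + ψ 0 := by
    rw [← Finset.sum_filter_add_sum_filter_not (Finset.univ.filter (fun d : F => d ^ q = d))
      (fun d => d ≠ 0) ψ, Finset.filter_filter, Finset.filter_filter]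
    congr 1
    · apply Finset.sum_congr _ (fun _ _ => rfl)
      ext d; simp [and_comm]
    · have : Finset.univ.filter (fun d : F => d ^ q = d ∧ ¬ d ≠ 0) = {0} := by
        ext d
        simp only [Finset.mem_filter, Finset.mem_univ, true_and, Finset.mem_singleton, not_not]
        constructor
        · exact fun h => h.2
        · rintro rfl
          exact ⟨by rw [zero_pow (by omega)], rfl⟩
      rw [this, Finset.sum_singleton]
  rw [hsub, h0] at hsplit
  have : ∑ d ∈ Finset.univ.filter (fun d : F => d ≠ 0 ∧ d ^ q = d), ψ d = -1 := by linarith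
  rw [this]
  ring

/-- the key field lemma -/
theorem norm_invol (hq : Even q) (hF : Fintype.card F = q ^ 2) (A C : F → F)
    (hA : ∀ u v, A (u + v) = A u + A v) (hAA : ∀ u, A (A u) = u)
    (hC : ∀ s t, s ^ q = s → t ^ q = t → C (s + t) = C s + C t)
    (hN : ∀ u, A u * (A u) ^ q = C (u * u ^ q)) :
    ∀ t, t ^ q = t → C t = t := by
  classical
  by_contra hcon
  push Not at hcon
  obtain ⟨t₀, ht₀, hCt₀⟩ := hcon
  have hq1 := Herm.one_lt_q hF
  have h2 := two_eq_zero hq hF
  have hdbl := dbl hq hF
  have hneg : ∀ x : F, -x = x := fun x => by linear_combination -(hdbl x)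
  have hz0 : (0 : F) ^ q = 0 := zero_pow (by omega)
  have hC0 : C 0 = 0 := by
    have := hC 0 0 hz0 hz0
    rw [add_zero] at this
    linear_combination -this
  have hA0 : A 0 = 0 := by
    have := hA 0 0
    rw [add_zero] at this
    linear_combination -this
  -- the subgroup of fixed points of `C`
  let D : AddSubgroup F :=
    { carrier := {t | t ^ q = t ∧ C t = t}
      zero_mem' := ⟨hz0, hC0⟩
      add_mem' := by
        rintro s t ⟨hs, hs'⟩ ⟨ht, ht'⟩
        refine ⟨?_, ?_⟩
        · rw [Herm.frob_add hF, hs, ht]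
        · rw [hC s t hs ht, hs', ht']
      neg_mem' := by
        rintro s ⟨hs, hs'⟩
        rw [hneg]
        exact ⟨hs, hs'⟩ }
  have ht₀D : t₀ ∉ D := fun h => hCt₀ h.2
  obtain ⟨ψ, hadd, hpm, hD, hψt₀⟩ := exists_sign h2 D t₀ ht₀D
  have hψ0 : ψ 0 = 1 := hD 0 D.zero_mem
  -- the fixed points of `A`
  let E : AddSubgroup F :=
    { carrier := {u | A u = u}
      zero_mem' := hA0
      add_mem' := by
        intro s t hs ht
        show A (s + t) = s + t
        rw [hA, show A s = s from hs, show A t = t from ht]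
      neg_mem' := by
        intro s hs
        rw [hneg]
        exact hs }
  have hEmem : ∀ e : E, A e.1 = e.1 := fun e => e.2
  have hNE : ∀ e : E, ψ (e.1 * e.1 ^ q) = 1 := by
    intro e
    apply hD
    refine ⟨norm_fixed hF e.1, ?_⟩
    rw [← hN, hEmem]
  -- the bilinear form
  set B : F → F → F := fun u e => u * e ^ q + u ^ q * e with hB
  have hBadd1 : ∀ u v e, B (u + v) e = B u e + B v e := by
    intro u v e
    simp only [hB, Herm.frob_add hF]
    ring
  have hBadd2 : ∀ u e e', B u (e + e') = B u e + B u e' := by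
    intro u e e'
    simp only [hB, Herm.frob_add hF]
    ring
  have hNadd : ∀ u e : F, (u + e) * (u + e) ^ q = u * u ^ q + e * e ^ q + B u e := by
    intro u e
    simp only [hB, Herm.frob_add hF]
    ring
  set I : F → ℤ := fun u => ∑ e : E, ψ (B u e.1) with hI
  -- (I) the values of `I`
  have hIval : ∀ u, I u = 0 ∨ I u = (Fintype.card E : ℤ) := by
    intro u
    by_cases h : ∃ e₁ : E, ψ (B u e₁.1) = -1
    · obtain ⟨e₁, he₁⟩ := h
      left
      exact sum_sign_eq_zero (G := E) (fun e => ψ (B u e.1))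
        (fun x y => by
          show ψ (B u (x.1 + y.1)) = _
          rw [hBadd2, hadd]) e₁ he₁
    · push Not at h
      right
      have : ∀ e : E, ψ (B u e.1) = 1 := fun e => (hpm _).resolve_right (h e)
      simp only [hI, this, Finset.sum_const, Finset.card_univ, nsmul_eq_mul, mul_one]
  have hInn : ∀ u, 0 ≤ I u := by
    intro u
    rcases hIval u with h | h <;> rw [h]
    positivity
  have hI0 : I 0 = (Fintype.card E : ℤ) := by
    have : ∀ e : E, ψ (B 0 e.1) = 1 := by
      intro e
      have : B 0 e.1 = 0 := by simp only [hB, hz0]; ring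
      rw [this, hψ0]
    simp only [hI, this, Finset.sum_const, Finset.card_univ, nsmul_eq_mul, mul_one]
  -- (c)
  have hS : ∑ u : F, ψ (u * u ^ q) = -(q : ℤ) := by
    rw [← sum_sign_norm hF ψ hadd hψ0 t₀ ht₀ hψt₀]
    apply Finset.sum_congr rfl
    intro u _
    rw [pow_succ']
  -- (d)
  have hd : (Fintype.card E : ℤ) * ∑ u : F, ψ (u * u ^ q) = ∑ u : F, ψ (u * u ^ q) * I u := by
    have h1 : ∑ e : E, ∑ u : F, ψ ((u + e.1) * (u + e.1) ^ q) =
        (Fintype.card E : ℤ) * ∑ u : F, ψ (u * u ^ q) := by
      have : ∀ e : E, ∑ u : F, ψ ((u + e.1) * (u + e.1) ^ q) = ∑ u : F, ψ (u * u ^ q) := fun e =>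
        Equiv.sum_comp (Equiv.addRight e.1) (fun u => ψ (u * u ^ q))
      simp only [this, Finset.sum_const, Finset.card_univ, nsmul_eq_mul]
    rw [← h1, Finset.sum_comm]
    apply Finset.sum_congr rfl
    intro u _
    rw [hI, Finset.mul_sum]
    apply Finset.sum_congr rfl
    intro e _
    rw [hNadd, hadd, hadd, hNE, mul_one]
  -- (e')
  have he : ∑ u : F, I u = (q : ℤ) ^ 2 := by
    simp only [hI]
    rw [Finset.sum_comm]
    have : ∀ e : E, ∑ u : F, ψ (B u e.1) = if e = 0 then (q : ℤ) ^ 2 else 0 := by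
      intro e
      split_ifs with h0
      · subst h0
        have : ∀ u : F, ψ (B u (0 : E).1) = 1 := by
          intro u
          have : B u (0 : E).1 = 0 := by
            show B u 0 = 0
            simp only [hB, hz0]; ring
          rw [this, hψ0]
        simp only [this, Finset.sum_const, Finset.card_univ, nsmul_eq_mul, mul_one, hF]
        push_cast; ring
      · have hne : e.1 ≠ 0 := fun h => h0 (Subtype.ext h)
        obtain ⟨s, hs⟩ := exists_trace hq hF t₀ ht₀
        apply sum_sign_eq_zero (fun u => ψ (B u e.1)) (fun x y => by rw [hBadd1, hadd])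
          (s * (e.1 ^ q)⁻¹)
        have hne' : e.1 ^ q ≠ 0 := pow_ne_zero q hne
        have : B (s * (e.1 ^ q)⁻¹) e.1 = t₀ := by
          simp only [hB]
          rw [mul_pow, inv_pow, Herm.frob_frob hF, inv_mul_cancel_right₀ hne',
            inv_mul_cancel_right₀ hne, hs]
        rw [this, hψt₀]
    rw [Finset.sum_congr rfl (fun e _ => this e), Finset.sum_ite_eq' Finset.univ (0 : E),
      if_pos (Finset.mem_univ _)]
  -- (f)
  have hf : q ≤ Fintype.card E := by
    let T : F →+ F :=
      { toFun := fun u => u + A u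
        map_zero' := by rw [hA0, add_zero]
        map_add' := fun u v => by rw [hA]; ring }
    have hker : T.ker = E := by
      ext u
      show u + A u = 0 ↔ A u = u
      constructor
      · intro h
        have := hdbl u
        linear_combination h - this
      · intro h
        rw [h]; exact hdbl u
    have hrange : T.range ≤ E := by
      rintro _ ⟨u, rfl⟩
      show A (u + A u) = u + A u
      rw [hA, hAA]; ring
    have h1 := AddSubgroup.card_eq_card_quotient_mul_card_addSubgroup T.ker
    have h3 : Nat.card (F ⧸ T.ker) = Nat.card T.range :=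
      Nat.card_congr (QuotientAddGroup.quotientKerEquivRange T).toEquiv
    rw [h3, hker, Nat.card_eq_fintype_card, hF] at h1
    have h4 : Nat.card T.range ≤ Nat.card E := AddSubgroup.card_le_of_le hrange
    rw [Nat.card_eq_fintype_card (α := E)] at h1 h4
    by_contra hlt
    push Not at hlt
    have : Nat.card T.range * Fintype.card E < q * q := by
      calc Nat.card T.range * Fintype.card E ≤ Fintype.card E * Fintype.card E :=
            Nat.mul_le_mul_right _ h4
        _ < q * q := Nat.mul_self_lt_mul_self hlt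
    nlinarith
  -- the final inequality
  have hfin : 2 * (Fintype.card E : ℤ) ≤ ∑ u : F, (ψ (u * u ^ q) + 1) * I u := by
    have hnn : ∀ u ∈ (Finset.univ : Finset F), 0 ≤ (ψ (u * u ^ q) + 1) * I u := by
      intro u _
      apply mul_nonneg _ (hInn u)
      rcases hpm (u * u ^ q) with h | h <;> rw [h] <;> norm_num
    have := Finset.single_le_sum hnn (Finset.mem_univ (0 : F))
    rw [hz0, mul_zero, hψ0, hI0] at this
    linarith
  have hsum : ∑ u : F, (ψ (u * u ^ q) + 1) * I u =
      ∑ u : F, ψ (u * u ^ q) * I u + ∑ u : F, I u := by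
    rw [← Finset.sum_add_distrib]
    apply Finset.sum_congr rfl
    intro u _
    ring
  rw [hsum, ← hd, hS, he] at hfin
  have hfZ : (q : ℤ) ≤ (Fintype.card E : ℤ) := by exact_mod_cast hf
  have hq0 : (0 : ℤ) < q := by exact_mod_cast (by omega : 0 < q)
  nlinarith

end

end Cfsg.Agent.Lib.Helper5.U3Even
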