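import Mathlib
import Cfsg.Agent.Lib.Helper5.U3Even.Core
import Cfsg.Agent.Lib.Helper8.SUTransport
import Cfsg.Agent.S0278
import Cfsg.Agent.S0279

/-!
The Sylow 2-subgroup of `SU₃(q)` and `PSU₃(q)`, `q` even, by explicit matrices for the standard
Hermitian form (author: helper5, generalising S1248).
-/

set_option autoImplicit false

namespace Cfsg.Agent.Lib.Helper5.U3Even

open Matrix Cfsg Cfsg.Agent.Lib.Helper5 Cfsg.Agent.Lib.Helper8.SUTransport

variable {F : Type*} [Field F] [Fintype F] {q : ℕ}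

set_option linter.unusedSectionVars false

def Mab (q : ℕ) (a b : F) : Matrix (Fin 3) (Fin 3) F :=
  !![1 + b, b, a; b, 1 + b, a; a ^ q, a ^ q, 1]

theorem Mab_mul (hq : Even q) (hF : Fintype.card F = q ^ 2) (a b a' b' : F) :
    Mab q a b * Mab q a' b' = Mab q (a + a') (b + b' + a * a' ^ q) := by
  have h2 := two_eq_zero hq hF
  have hf := Herm.frob_add hF a a'
  ext i j
  fin_cases i <;> fin_cases j
  · simp [Mab, Matrix.mul_apply, Fin.sum_univ_three]; linear_combination (b * b') * h2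
  · simp [Mab, Matrix.mul_apply, Fin.sum_univ_three]; linear_combination (b * b') * h2
  · simp [Mab, Matrix.mul_apply, Fin.sum_univ_three]; linear_combination (b * a') * h2
  · simp [Mab, Matrix.mul_apply, Fin.sum_univ_three]; linear_combination (b * b') * h2
  · simp [Mab, Matrix.mul_apply, Fin.sum_univ_three]; linear_combination (b * b') * h2
  · simp [Mab, Matrix.mul_apply, Fin.sum_univ_three]; linear_combination (b * a') * h2
  · simp [Mab, Matrix.mul_apply, Fin.sum_univ_three]; linear_combination (a ^ q * b') * h2 - hf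
  · simp [Mab, Matrix.mul_apply, Fin.sum_univ_three]; linear_combination (a ^ q * b') * h2 - hf
  · simp [Mab, Matrix.mul_apply, Fin.sum_univ_three]; linear_combination (a ^ q * a') * h2

theorem Mab_det (hq : Even q) (hF : Fintype.card F = q ^ 2) (a b : F) : (Mab q a b).det = 1 := by
  have h2 := two_eq_zero hq hF
  rw [Matrix.det_fin_three]
  simp [Mab]
  linear_combination (b - a * a ^ q) * h2

theorem Mab_unitary (hq : Even q) (hF : Fintype.card F = q ^ 2) (a b : F) (hc : b + b ^ q = a * a ^ q) :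
    ∀ j k, ∑ i, Mab q a b i j * (Mab q a b i k) ^ q = if j = k then 1 else 0 := by
  have h2 := two_eq_zero hq hF
  have e1 : (1 + b) ^ q = 1 + b ^ q := by rw [Herm.frob_add hF, one_pow]
  have e2 : (a ^ q) ^ q = a := Herm.frob_frob hF a
  intro j k
  fin_cases j <;> fin_cases k
  · simp [Mab, Fin.sum_univ_three]
    linear_combination (1 + b) * e1 + a ^ q * e2 + hc + (a * a ^ q + b * b ^ q) * h2
  · simp [Mab, Fin.sum_univ_three]
    linear_combination b * e1 + a ^ q * e2 + hc + (a * a ^ q + b * b ^ q) * h2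
  · simp [Mab, Fin.sum_univ_three]
    linear_combination (a ^ q + b * a ^ q) * h2
  · simp [Mab, Fin.sum_univ_three]
    linear_combination b * e1 + a ^ q * e2 + hc + (a * a ^ q + b * b ^ q) * h2
  · simp [Mab, Fin.sum_univ_three]
    linear_combination (1 + b) * e1 + a ^ q * e2 + hc + (a * a ^ q + b * b ^ q) * h2
  · simp [Mab, Fin.sum_univ_three]
    linear_combination (a ^ q + b * a ^ q) * h2
  · simp [Mab, Fin.sum_univ_three]
    linear_combination a * e1 + e2 + (a + a * b ^ q) * h2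
  · simp [Mab, Fin.sum_univ_three]
    linear_combination a * e1 + e2 + (a + a * b ^ q) * h2
  · simp [Mab, Fin.sum_univ_three]
    linear_combination (a * a ^ q) * h2

/-- the matrix underlying an element of `SU` -/
def toM (g : SU 3 F q) : Matrix (Fin 3) (Fin 3) F := ((g : Matrix.SpecialLinearGroup (Fin 3) F) : Matrix (Fin 3) (Fin 3) F)

theorem toM_mul (g h : SU 3 F q) : toM (g * h) = toM g * toM h := by
  unfold toM
  rw [Subgroup.coe_mul, Matrix.SpecialLinearGroup.coe_mul]

theorem toM_one : toM (1 : SU 3 F q) = 1 := by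
  unfold toM
  rw [Subgroup.coe_one, Matrix.SpecialLinearGroup.coe_one]

theorem toM_inj {g h : SU 3 F q} (hgh : toM g = toM h) : g = h :=
  Subtype.ext (Subtype.ext hgh)

def mkSU (hq : Even q) (hF : Fintype.card F = q ^ 2) (a b : F) (hc : b + b ^ q = a * a ^ q) : SU 3 F q :=
  ⟨⟨Mab q a b, Mab_det hq hF a b⟩,
    (mem_SU_iff 3 q _).2 (herm_preserve (Herm.frob_add hF) _ (Mab_unitary hq hF a b hc))⟩

theorem toM_mkSU (hq : Even q) (hF : Fintype.card F = q ^ 2) (a b : F) (hc : b + b ^ q = a * a ^ q) :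
    toM (mkSU hq hF a b hc) = Mab q a b := rfl

theorem Mab_zero (hq0 : q ≠ 0) : Mab q (0 : F) 0 = 1 := by
  ext i j
  fin_cases i <;> fin_cases j <;> simp [Mab, hq0]

theorem q_ne_zero (hF : Fintype.card F = q ^ 2) : q ≠ 0 := by
  have := Herm.one_lt_q hF
  omega

def U (hq : Even q) (hF : Fintype.card F = q ^ 2) : Subgroup (SU 3 F q) where
  carrier := {g | ∃ a b : F, b + b ^ q = a * a ^ q ∧ toM g = Mab q a b}
  one_mem' := ⟨0, 0, by rw [zero_pow (q_ne_zero hF)]; ring, by rw [toM_one, Mab_zero (q_ne_zero hF)]⟩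
  mul_mem' := by
    rintro g h ⟨a, b, hc, hg⟩ ⟨a', b', hc', hh⟩
    refine ⟨a + a', b + b' + a * a' ^ q, ?_, by rw [toM_mul, hg, hh, Mab_mul hq hF]⟩
    have h2 := two_eq_zero hq hF
    have e1 : (b + b' + a * a' ^ q) ^ q = b ^ q + b' ^ q + a ^ q * a' := by
      rw [Herm.frob_add hF, Herm.frob_add hF, mul_pow, Herm.frob_frob hF]
    have e2 := Herm.frob_add hF a a'
    rw [e1, e2]
    linear_combination hc + hc'
  inv_mem' := by
    rintro g ⟨a, b, hc, hg⟩
    have h2 := two_eq_zero hq hF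
    have hc2 : (b + a * a ^ q) + (b + a * a ^ q) ^ q = a * a ^ q := by
      rw [Herm.frob_add hF, norm_fixed hF]
      linear_combination hc + (a * a ^ q) * h2
    refine ⟨a, b + a * a ^ q, hc2, ?_⟩
    have h1 : g * mkSU hq hF a (b + a * a ^ q) hc2 = 1 := by
      apply toM_inj
      rw [toM_mul, hg, toM_mkSU, Mab_mul hq hF, toM_one, ← Mab_zero (q_ne_zero hF)]
      congr 1
      · linear_combination a * h2
      · linear_combination (b + a * a ^ q) * h2
    rw [← toM_mkSU hq hF a (b + a * a ^ q) hc2]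
    congr 1
    exact inv_eq_of_mul_eq_one_right h1

theorem Mab_02 (a b : F) : Mab q a b 0 2 = a := by simp [Mab]
theorem Mab_01 (a b : F) : Mab q a b 0 1 = b := by simp [Mab]

/-- coordinates on any group isomorphic to `U` -/
noncomputable def coordsOfEquiv (hq : Even q) (hF : Fintype.card F = q ^ 2) {X : Type*} [Group X]
    (e : X ≃* U hq hF) : Coords F q X := by
  have hrep : ∀ x : U hq hF, toM x.1 = Mab q (toM x.1 0 2) (toM x.1 0 1) ∧
      (toM x.1 0 1) + (toM x.1 0 1) ^ q = (toM x.1 0 2) * (toM x.1 0 2) ^ q := by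
    rintro ⟨g, a, b, hc, hg⟩
    show toM g = Mab q (toM g 0 2) (toM g 0 1) ∧ _
    rw [hg, Mab_02, Mab_01]
    exact ⟨rfl, hc⟩
  refine ⟨fun x => toM (e x).1 0 2, fun x => toM (e x).1 0 1, ?_, ?_, ?_, ?_, ?_⟩
  · intro x y
    show toM (e (x * y)).1 0 2 = _
    rw [map_mul, Subgroup.coe_mul, toM_mul, (hrep (e x)).1, (hrep (e y)).1, Mab_mul hq hF, Mab_02,
      Mab_02, Mab_02]
  · intro x y
    show toM (e (x * y)).1 0 1 = _
    rw [map_mul, Subgroup.coe_mul, toM_mul, (hrep (e x)).1, (hrep (e y)).1, Mab_mul hq hF, Mab_01,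
      Mab_01, Mab_01, Mab_02, Mab_02]
  · intro x y h1 h2
    apply e.injective
    apply Subtype.ext
    apply toM_inj
    rw [(hrep (e x)).1, (hrep (e y)).1, h1, h2]
  · intro x
    exact (hrep (e x)).2
  · intro a0 b0 h
    refine ⟨e.symm ⟨mkSU hq hF a0 b0 h, a0, b0, h, rfl⟩, ?_, ?_⟩
    · show toM (e (e.symm _)).1 0 2 = a0
      rw [MulEquiv.apply_symm_apply]
      show toM (mkSU hq hF a0 b0 h) 0 2 = a0
      rw [toM_mkSU, Mab_02]
    · show toM (e (e.symm _)).1 0 1 = b0
      rw [MulEquiv.apply_symm_apply]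
      show toM (mkSU hq hF a0 b0 h) 0 1 = b0
      rw [toM_mkSU, Mab_01]


end Cfsg.Agent.Lib.Helper5.U3Even
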