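import Mathlib
import Cfsg.Agent.Lib.Helper5.U3Even.Mats

/-!
The Sylow 2-subgroups of `PSU₃(q)`, `q` even, are isomorphic to the explicit group `U` (author: helper5).
-/

set_option autoImplicit false

namespace Cfsg.Agent.Lib.Helper5.U3Even

open Cfsg

variable {F : Type*} [Field F] [Fintype F] {q : ℕ}

theorem card_U (hq : Even q) (hF : Fintype.card F = q ^ 2) : Nat.card (U hq hF) = q ^ 3 :=
  (coordsOfEquiv hq hF (MulEquiv.refl _)).card_eq hq hF

/-- the map `U → PSU₃(q)` -/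
def toPSU (hq : Even q) (hF : Fintype.card F = q ^ 2) : U hq hF →* PSU 3 F q :=
  (QuotientGroup.mk' (Subgroup.center (SU 3 F q))).comp (U hq hF).subtype

theorem card_SU3 (hF : Fintype.card F = q ^ 2) :
    Nat.card (SU 3 F q) = q ^ 3 * ((q ^ 2 - 1) * (q ^ 3 + 1)) := by
  have h := Cfsg.Agent.S0278.result hF 3 (by norm_num)
  have hq1 : 0 < q + 1 := by omega
  apply Nat.eq_of_mul_eq_mul_left hq1
  rw [h]
  simp [Finset.prod_range_succ]
  ring

theorem odd_part (hq : Even q) (hq0 : q ≠ 0) : ¬ 2 ∣ (q ^ 2 - 1) * (q ^ 3 + 1) := by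
  obtain ⟨k, rfl⟩ := hq
  have hk : 0 < k := by omega
  intro h
  rcases (Nat.Prime.dvd_mul Nat.prime_two).1 h with h | h
  · have h1 : 1 ≤ (k + k) ^ 2 := Nat.one_le_pow _ _ (by omega)
    have : 2 ∣ (k + k) ^ 2 := by
      exact Dvd.dvd.pow ⟨k, by ring⟩ (by norm_num)
    omega
  · have : 2 ∣ (k + k) ^ 3 := by
      exact Dvd.dvd.pow ⟨k, by ring⟩ (by norm_num)
    omega

theorem toPSU_injective (hq : Even q) (hF : Fintype.card F = q ^ 2) :
    Function.Injective (toPSU hq hF) := by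
  rw [injective_iff_map_eq_one]
  intro u hu
  have hu1 : (u : SU 3 F q) ∈ Subgroup.center (SU 3 F q) := by
    have : ((u : SU 3 F q) : PSU 3 F q) = 1 := hu
    exact (QuotientGroup.eq_one_iff _).1 this
  have h1 : orderOf u ∣ q ^ 3 := by
    rw [← card_U hq hF]
    exact orderOf_dvd_natCard u
  have h2 : orderOf u ∣ Nat.gcd 3 (q + 1) := by
    rw [← Cfsg.Agent.S0279.card_center hF 3 (by norm_num)]
    have : orderOf u = orderOf (⟨(u : SU 3 F q), hu1⟩ : Subgroup.center (SU 3 F q)) := by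
      rw [← Subgroup.orderOf_coe u, ← Subgroup.orderOf_coe (⟨(u : SU 3 F q), hu1⟩ : Subgroup.center (SU 3 F q))]
    rw [this]
    exact orderOf_dvd_natCard _
  have h3 : orderOf u ∣ q + 1 := h2.trans (Nat.gcd_dvd_right _ _)
  have hcop : Nat.Coprime (q ^ 3) (q + 1) := by
    apply Nat.Coprime.pow_left
    simp
  have : orderOf u ∣ 1 := by
    rw [← hcop]
    exact Nat.dvd_gcd h1 h3
  exact orderOf_eq_one_iff.1 (Nat.dvd_one.1 this)

theorem sylow_equiv {n : ℕ} (hqn : q = 2 ^ n) (hF : Fintype.card F = q ^ 2)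
    (hq : Even q) (S : Sylow 2 (PSU 3 F q)) :
    Nonempty (↥(S : Subgroup (PSU 3 F q)) ≃* U hq hF) := by
  have : Fact (Nat.Prime 2) := ⟨Nat.prime_two⟩
  have hq0 : q ≠ 0 := by rw [hqn]; positivity
  have hinj := toPSU_injective hq hF
  have hcardR : Nat.card (toPSU hq hF).range = q ^ 3 := by
    rw [← card_U hq hF]
    exact (Nat.card_congr (MonoidHom.ofInjective hinj).toEquiv).symm
  have hP : IsPGroup 2 (toPSU hq hF).range := by
    apply IsPGroup.of_card (n := 3 * n)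
    rw [hcardR, hqn, ← pow_mul, mul_comm]
  have hidx : ¬ 2 ∣ (toPSU hq hF).range.index := by
    intro h2
    have hc1 : Nat.card (PSU 3 F q) * Nat.card (Subgroup.center (SU 3 F q)) = Nat.card (SU 3 F q) :=
      (Subgroup.card_eq_card_quotient_mul_card_subgroup (Subgroup.center (SU 3 F q))).symm
    have hc2 : Nat.card (toPSU hq hF).range * (toPSU hq hF).range.index = Nat.card (PSU 3 F q) :=
      Subgroup.card_mul_index _
    rw [card_SU3 hF, ← hc2, hcardR, mul_assoc] at hc1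
    have hq3 : 0 < q ^ 3 := by positivity
    have hc3 := Nat.eq_of_mul_eq_mul_left hq3 hc1
    apply odd_part hq hq0
    rw [← hc3]
    exact Dvd.dvd.mul_right h2 _
  let Q₀ : Sylow 2 (PSU 3 F q) := hP.toSylow hidx
  have e1 : ↥(S : Subgroup (PSU 3 F q)) ≃* ↥(Q₀ : Subgroup (PSU 3 F q)) := Sylow.equiv S Q₀
  have e2 : ↥(Q₀ : Subgroup (PSU 3 F q)) ≃* (toPSU hq hF).range :=
    MulEquiv.subgroupCongr (IsPGroup.toSylow_coe hP hidx)
  exact ⟨(e1.trans e2).trans (MonoidHom.ofInjective hinj).symm⟩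

end Cfsg.Agent.Lib.Helper5.U3Even
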