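import Mathlib
import Cfsg.Agent.Lib.Helper5.U3Even.NormInvol
import Cfsg.Agent.Lib.Helper5.U3Even.Sylow

/-!
A subgroup of index two isomorphic to the Sylow 2-subgroup of `SU₃(q)`, `q` even, has its centre in the
centre of the big group (author: helper5).
-/

set_option autoImplicit false

namespace Cfsg.Agent.Lib.Helper5.U3Even

open Cfsg Cfsg.Agent.Lib.Helper5

section
variable {F : Type*} [Field F] [Fintype F] {q : ℕ}

/-- the Sylow 2-subgroups of `SU₃(q)` are isomorphic to `U` -/
theorem sylow_equiv_SU {n : ℕ} (hqn : q = 2 ^ n) (hF : Fintype.card F = q ^ 2)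
    (hq : Even q) (S : Sylow 2 (SU 3 F q)) :
    Nonempty (↥(S : Subgroup (SU 3 F q)) ≃* U hq hF) := by
  have : Fact (Nat.Prime 2) := ⟨Nat.prime_two⟩
  have hq0 : q ≠ 0 := by rw [hqn]; positivity
  have hcardR : Nat.card (U hq hF) = q ^ 3 := card_U hq hF
  have hP : IsPGroup 2 (U hq hF) := by
    apply IsPGroup.of_card (n := 3 * n)
    rw [hcardR, hqn, ← pow_mul, mul_comm]
  have hidx : ¬ 2 ∣ (U hq hF).index := by
    intro h2
    have hc2 : Nat.card (U hq hF) * (U hq hF).index = Nat.card (SU 3 F q) :=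
      Subgroup.card_mul_index _
    rw [card_SU3 hF, hcardR] at hc2
    have hq3 : 0 < q ^ 3 := by positivity
    have hc3 := Nat.eq_of_mul_eq_mul_left hq3 hc2
    apply odd_part hq hq0
    rw [← hc3]
    exact h2
  let Q₀ : Sylow 2 (SU 3 F q) := hP.toSylow hidx
  have e1 : ↥(S : Subgroup (SU 3 F q)) ≃* ↥(Q₀ : Subgroup (SU 3 F q)) := Sylow.equiv S Q₀
  have e2 : ↥(Q₀ : Subgroup (SU 3 F q)) ≃* U hq hF :=
    MulEquiv.subgroupCongr (IsPGroup.toSylow_coe hP hidx)
  exact ⟨e1.trans e2⟩

end

namespace Coords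

variable {F : Type*} [Field F] [Fintype F] {q : ℕ} {X : Type*} [Group X] (c : Coords F q X)

omit [Fintype F] in
theorem a_inv (x : X) : c.a x⁻¹ = -c.a x := by
  have := c.ha x x⁻¹
  rw [mul_inv_cancel, c.a_one] at this
  linear_combination -this

/-- an automorphism preserves the `a`-fibres -/
theorem a_aut_congr (hq : Even q) (hF : Fintype.card F = q ^ 2) (α : X ≃* X) (x y : X)
    (h : c.a x = c.a y) : c.a (α x) = c.a (α y) := by
  have h1 : x⁻¹ * y ∈ Subgroup.center X := by
    rw [c.mem_center_iff hq hF, c.ha, c.a_inv, h]; ring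
  have h2 : α (x⁻¹ * y) ∈ Subgroup.center X := by
    rw [Subgroup.mem_center_iff] at h1 ⊢
    intro g
    have := congrArg α (h1 (α.symm g))
    rw [map_mul α (α.symm g), map_mul α _ (α.symm g), MulEquiv.apply_symm_apply] at this
    exact this
  rw [c.mem_center_iff hq hF, map_mul, map_inv, c.ha, c.a_inv] at h2
  linear_combination -h2

theorem a_aut_center (hq : Even q) (hF : Fintype.card F = q ^ 2) (α : X ≃* X) (x : X)
    (h : c.a x = 0) : c.a (α x) = 0 := by
  have := c.a_aut_congr hq hF α x 1 (by rw [h, c.a_one])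
  rw [this, map_one, c.a_one]

/-- an automorphism whose square preserves `a` fixes the centre pointwise -/
theorem aut_fix_center (hq : Even q) (hF : Fintype.card F = q ^ 2) (α : X ≃* X)
    (hsq : ∀ x, c.a (α (α x)) = c.a x) (z : X) (hz : z ∈ Subgroup.center X) : α z = z := by
  have hdbl := dbl hq hF
  have hq1 := Herm.one_lt_q hF
  have hz0 : (0 : F) ^ q = 0 := zero_pow (by omega)
  have hx : ∀ u : F, ∃ x : X, c.a x = u := by
    intro u
    obtain ⟨b0, hb0⟩ := exists_b hq hF u
    obtain ⟨x, hx, _⟩ := c.hsurj u b0 hb0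
    exact ⟨x, hx⟩
  choose x hxa using hx
  have hz' : ∀ t : F, ∃ y : X, t ^ q = t → (c.a y = 0 ∧ c.b y = t) := by
    intro t
    by_cases ht : t ^ q = t
    · obtain ⟨y, hy1, hy2⟩ := c.hsurj 0 t (by rw [ht, hz0, mul_zero]; exact hdbl t)
      exact ⟨y, fun _ => ⟨hy1, hy2⟩⟩
    · exact ⟨1, fun h => absurd h ht⟩
  choose zz hzz using hz'
  have key := norm_invol hq hF (fun u => c.a (α (x u))) (fun t => c.b (α (zz t))) ?_ ?_ ?_ ?_
  · have ha : c.a z = 0 := (c.mem_center_iff hq hF z).1 hz
    have hbq : (c.b z) ^ q = c.b z := by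
      rw [← fix_iff hq hF]
      have := c.hcond z
      rw [ha, zero_mul] at this
      exact this
    have hzeq : z = zz (c.b z) := by
      apply c.hinj
      · rw [ha, (hzz _ hbq).1]
      · rw [(hzz _ hbq).2]
    apply c.hinj
    · rw [c.a_aut_center hq hF α z ha, ha]
    · have := key (c.b z) hbq
      rw [← hzeq] at this
      exact this
  · -- additivity of `A`
    intro u v
    show c.a (α (x (u + v))) = c.a (α (x u)) + c.a (α (x v))
    rw [c.a_aut_congr hq hF α (x (u + v)) (x u * x v) (by rw [c.ha, hxa, hxa, hxa]), map_mul, c.ha]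
  · -- `A` is an involution
    intro u
    show c.a (α (x (c.a (α (x u))))) = u
    rw [c.a_aut_congr hq hF α (x (c.a (α (x u)))) (α (x u)) (by rw [hxa]), hsq, hxa]
  · -- additivity of `C`
    intro s t hs ht
    show c.b (α (zz (s + t))) = c.b (α (zz s)) + c.b (α (zz t))
    have hst : (s + t) ^ q = s + t := by rw [Herm.frob_add hF, hs, ht]
    have : zz (s + t) = zz s * zz t := by
      apply c.hinj
      · rw [c.ha, (hzz _ hst).1, (hzz _ hs).1, (hzz _ ht).1, add_zero]
      · rw [c.hb, (hzz _ hst).2, (hzz _ hs).2, (hzz _ ht).2, (hzz _ hs).1, zero_mul, add_zero]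
    rw [this, map_mul, c.hb, c.a_aut_center hq hF α (zz s) (hzz _ hs).1, zero_mul, add_zero]
  · -- compatibility with the norm
    intro u
    show c.a (α (x u)) * c.a (α (x u)) ^ q = c.b (α (zz (u * u ^ q)))
    have hN := norm_fixed hF u
    have : zz (u * u ^ q) = x u * x u := by
      apply c.hinj
      · rw [c.ha, (hzz _ hN).1, hxa, hdbl]
      · rw [c.hb, (hzz _ hN).2, hxa, hdbl, zero_add]
    rw [this, map_mul, c.hb, hdbl, zero_add]

end Coords

section
variable {F : Type*} [Field F] [Fintype F] {q : ℕ}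

/-- the centre of an index-two subgroup with Sylow-of-`SU₃` coordinates is central -/
theorem center_le_of_index_two {R : Type*} [Group R] (S : Subgroup R) (hidx : S.index = 2)
    (hq : Even q) (hF : Fintype.card F = q ^ 2) (c : Coords F q ↥S) :
    (Subgroup.center ↥S).map S.subtype ≤ Subgroup.center R := by
  have hnormal : S.Normal := Subgroup.normal_of_index_eq_two hidx
  rintro _ ⟨z, hz, rfl⟩
  rw [Subgroup.mem_center_iff]
  intro g
  by_cases hg : g ∈ S
  · have := Subgroup.mem_center_iff.1 hz ⟨g, hg⟩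
    exact congrArg Subtype.val this
  · have hgg : g * g ∈ S := Subgroup.mul_self_mem_of_index_two hidx g
    have hfix := c.aut_fix_center hq hF (MulAut.conjNormal g : MulAut S) ?_ z hz
    · have h1 := congrArg Subtype.val hfix
      rw [MulAut.conjNormal_apply] at h1
      show g * (z : R) = (z : R) * g
      calc g * (z : R) = g * (z : R) * g⁻¹ * g := by group
        _ = (z : R) * g := by rw [h1]
    · intro x
      have : (MulAut.conjNormal g : MulAut S) ((MulAut.conjNormal g : MulAut S) x) =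
          (⟨g * g, hgg⟩ : S) * x * (⟨g * g, hgg⟩ : S)⁻¹ := by
        apply Subtype.ext
        rw [MulAut.conjNormal_apply, MulAut.conjNormal_apply]
        show g * (g * (x : R) * g⁻¹) * g⁻¹ = g * g * (x : R) * (g * g)⁻¹
        group
      rw [this, c.ha, c.ha, c.a_inv]
      ring

end

end Cfsg.Agent.Lib.Helper5.U3Even
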