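import Mathlib
import Cfsg.Agent.Lib.Helper5.U3Even.Core
import Cfsg.Agent.Lib.Helper5.HermCount

/-!
Additive bijections `A` of `F_{q²}` (`q` even) compatible with the norm through an additive map `C` of
`F_q` are of the form `u ↦ l σ(u)` with `σ` a field automorphism (author: helper5).
-/

set_option autoImplicit false

namespace Cfsg.Agent.Lib.Helper5.U3Even

open Cfsg Cfsg.Agent.Lib.Helper5

section
variable {F : Type*} [Field F] [Fintype F] {q : ℕ}

/-- the norm is onto the fixed field -/
theorem exists_norm_eq (hF : Fintype.card F = q ^ 2) (d : F) (hdq : d ^ q = d) :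
    ∃ k : F, k * k ^ q = d := by
  classical
  have hq1 := Herm.one_lt_q hF
  by_cases hd : d = 0
  · exact ⟨0, by rw [hd, zero_mul]⟩
  have h := HermCount.card_norm_fiber hF d
  rw [if_neg hd, if_pos hdq] at h
  have hpos : 0 < (Finset.univ.filter (fun x : F => x ^ (q + 1) = d)).card := by omega
  obtain ⟨k, hk⟩ := Finset.card_pos.1 hpos
  rw [Finset.mem_filter] at hk
  exact ⟨k, by rw [← pow_succ']; exact hk.2⟩

/-- decomposition along a non-fixed element -/
theorem exists_decomp (hF : Fintype.card F = q ^ 2) (u : F) (hu : u ^ q ≠ u) (v : F) :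
    ∃ s t : F, s ^ q = s ∧ t ^ q = t ∧ v = s + t * u := by
  have hne : u - u ^ q ≠ 0 := fun h => hu (sub_eq_zero.1 h).symm
  have hneq : (u - u ^ q) ^ q = -(u - u ^ q) := by
    rw [Herm.frob_sub hF, Herm.frob_frob hF]; ring
  set t : F := (v - v ^ q) / (u - u ^ q) with ht
  have htq : t ^ q = t := by
    rw [ht, div_pow, hneq, Herm.frob_sub hF, Herm.frob_frob hF]
    field_simp
    ring
  have hvt : v - v ^ q = t * (u - u ^ q) := by
    rw [ht]; field_simp
  refine ⟨v - t * u, t, ?_, htq, by ring⟩
  rw [Herm.frob_sub hF, mul_pow, htq]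
  linear_combination -hvt

/-- the normalised statement -/
theorem semilinear_normalized (hq : Even q) (hF : Fintype.card F = q ^ 2) (A C : F → F)
    (hA : ∀ u v, A (u + v) = A u + A v) (hAinj : Function.Injective A) (hA1 : A 1 = 1)
    (hC : ∀ s t, s ^ q = s → t ^ q = t → C (s + t) = C s + C t)
    (hN : ∀ u, A u * (A u) ^ q = C (u * u ^ q)) :
    (∀ u v, A (u * v) = A u * A v) ∧ ∀ t, t ^ q = t → C t = A t := by
  have hq1 := Herm.one_lt_q hF
  have hdbl := dbl hq hF
  have hz0 : (0 : F) ^ q = 0 := zero_pow (by omega)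
  have h1q : (1 : F) ^ q = 1 := one_pow q
  have hC0 : C 0 = 0 := by
    have := hC 0 0 hz0 hz0
    rw [add_zero] at this
    linear_combination -this
  have hA0 : A 0 = 0 := by
    have := hA 0 0
    rw [add_zero] at this
    linear_combination -this
  have hAneg : ∀ u, A (-u) = -A u := by
    intro u
    have := hA u (-u)
    rw [add_neg_cancel, hA0] at this
    linear_combination -this
  have hAsub : ∀ u v, A (u - v) = A u - A v := by
    intro u v
    rw [sub_eq_add_neg, hA, hAneg]; ring
  have hAsurj : Function.Surjective A := Finite.injective_iff_surjective.1 hAinj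
  have hNq : ∀ u : F, (u * u ^ q) ^ q = u * u ^ q := norm_fixed hF
  have hTq : ∀ u v : F, (u * v ^ q + u ^ q * v) ^ q = u * v ^ q + u ^ q * v := by
    intro u v
    rw [Herm.frob_add hF, mul_pow, mul_pow, Herm.frob_frob hF, Herm.frob_frob hF]; ring
  have haddq : ∀ s t : F, s ^ q = s → t ^ q = t → (s + t) ^ q = s + t := by
    intro s t hs ht
    rw [Herm.frob_add hF, hs, ht]
  -- (1) polarisation
  have hpol : ∀ u v, A u * (A v) ^ q + (A u) ^ q * A v = C (u * v ^ q + u ^ q * v) := by
    intro u v
    have h1 : (u + v) * (u + v) ^ q = u * u ^ q + v * v ^ q + (u * v ^ q + u ^ q * v) := by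
      rw [Herm.frob_add hF]; ring
    have h2 := hN (u + v)
    rw [h1, hC _ _ (haddq _ _ (hNq u) (hNq v)) (hTq u v), hC _ _ (hNq u) (hNq v), ← hN, ← hN, hA,
      Herm.frob_add hF] at h2
    linear_combination h2
  -- (2) the trace
  have htr : ∀ u, A u + (A u) ^ q = C (u + u ^ q) := by
    intro u
    have := hpol u 1
    rw [hA1, h1q, mul_one, mul_one, mul_one, mul_one] at this
    exact this
  -- (3) the fixed field is preserved
  have hAF : ∀ t, t ^ q = t → (A t) ^ q = A t := by
    intro t ht
    rw [← fix_iff hq hF, htr, ht, hdbl, hC0]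
  -- (4) `C` on the fixed field
  have hCmul : ∀ s t, s ^ q = s → t ^ q = t → C (t * s) = A t * C s := by
    intro s t hs ht
    obtain ⟨u, hu⟩ := exists_trace hq hF s hs
    have := hpol u t
    rw [hAF t ht, ht] at this
    have e1 : u * t + u ^ q * t = t * s := by rw [← hu]; ring
    rw [e1] at this
    rw [← this, ← hu, ← htr]; ring
  have hC1 : C 1 = 1 := by
    have := hN 1
    rw [hA1, h1q, mul_one] at this
    exact this.symm
  have hCA : ∀ t, t ^ q = t → C t = A t := by
    intro t ht
    have := hCmul 1 t h1q ht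
    rw [mul_one, hC1, mul_one] at this
    exact this
  -- (5) semilinearity
  have hnd : ∀ w : F, (∀ z : F, w * z ^ q + w ^ q * z = 0) → w = 0 := by
    intro w hw
    by_contra hne
    obtain ⟨s₀, hs₀⟩ := exists_trace hq hF 1 h1q
    have := hw ((s₀ / w) ^ q)
    rw [Herm.frob_frob hF] at this
    have e : w * (s₀ / w) + w ^ q * (s₀ / w) ^ q = s₀ + s₀ ^ q := by
      rw [div_pow]
      have hne' : w ^ q ≠ 0 := pow_ne_zero q hne
      field_simp
    rw [e, hs₀] at this
    exact one_ne_zero this
  have hsemi : ∀ t u, t ^ q = t → A (t * u) = A t * A u := by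
    intro t u ht
    have : A (t * u) - A t * A u = 0 := by
      apply hnd
      intro z
      obtain ⟨v, rfl⟩ := hAsurj z
      have h1 := hpol (t * u) v
      have e1 : t * u * v ^ q + (t * u) ^ q * v = t * (u * v ^ q + u ^ q * v) := by
        rw [mul_pow, ht]; ring
      rw [e1, hCmul _ t (hTq u v) ht, ← hpol u v] at h1
      rw [Herm.frob_sub hF, mul_pow, hAF t ht]
      linear_combination h1
    exact sub_eq_zero.1 this
  -- (6) squares
  have hsq : ∀ u, A (u * u) = A u * A u := by
    intro u
    have e : u * u = (u + u ^ q) * u - u * u ^ q := by ring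
    have htq : (u + u ^ q) ^ q = u + u ^ q := by
      rw [Herm.frob_add hF, Herm.frob_frob hF]; ring
    rw [e, hAsub, hsemi _ _ htq, ← hCA _ htq, ← htr, ← hCA _ (hNq u), ← hN]
    ring
  refine ⟨?_, hCA⟩
  intro u v
  by_cases hu : u ^ q = u
  · exact hsemi u v hu
  · obtain ⟨s, t, hs, ht, rfl⟩ := exists_decomp hF u hu v
    have e : u * (s + t * u) = s * u + t * (u * u) := by ring
    rw [e, hA, hA, hsemi s u hs, hsemi t _ ht, hsemi t u ht, hsq]
    ring

/-- additive bijections compatible with the norm are semilinear -/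
theorem semilinear_of_norm (hq : Even q) (hF : Fintype.card F = q ^ 2) (A C : F → F)
    (hA : ∀ u v, A (u + v) = A u + A v) (hAinj : Function.Injective A)
    (hC : ∀ s t, s ^ q = s → t ^ q = t → C (s + t) = C s + C t)
    (hN : ∀ u, A u * (A u) ^ q = C (u * u ^ q)) :
    ∃ (l : F) (σ : F ≃+* F), l ≠ 0 ∧ (∀ u, A u = l * σ u) ∧
      ∀ t, t ^ q = t → C t = l * l ^ q * σ t := by
  have hA0 : A 0 = 0 := by
    have := hA 0 0
    rw [add_zero] at this
    linear_combination -this
  have hl : A 1 ≠ 0 := by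
    intro h
    have := hAinj (h.trans hA0.symm)
    exact one_ne_zero this
  set l : F := A 1 with hl'
  have hlq : l ^ q ≠ 0 := pow_ne_zero q hl
  have hll : l * l ^ q ≠ 0 := mul_ne_zero hl hlq
  obtain ⟨hmul, hCA⟩ := semilinear_normalized hq hF (fun u => l⁻¹ * A u) (fun t => (l * l ^ q)⁻¹ * C t)
    (fun u v => by simp only [hA]; ring)
    (fun u v h => hAinj (mul_left_cancel₀ (inv_ne_zero hl) h))
    (inv_mul_cancel₀ hl)
    (fun s t hs ht => by simp only [hC s t hs ht]; ring)
    (fun u => by
      rw [mul_pow, inv_pow, ← hN]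
      field_simp)
  have hadd' : ∀ u v, l⁻¹ * A (u + v) = l⁻¹ * A u + l⁻¹ * A v := fun u v => by rw [hA]; ring
  have hinj' : Function.Injective (fun u => l⁻¹ * A u) :=
    fun u v h => hAinj (mul_left_cancel₀ (inv_ne_zero hl) h)
  let σ₀ : F →+* F :=
    { toFun := fun u => l⁻¹ * A u
      map_one' := inv_mul_cancel₀ hl
      map_mul' := hmul
      map_zero' := by rw [hA0, mul_zero]
      map_add' := hadd' }
  have hbij : Function.Bijective σ₀ := ⟨hinj', Finite.injective_iff_surjective.1 hinj'⟩
  refine ⟨l, RingEquiv.ofBijective σ₀ hbij, hl, ?_, ?_⟩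
  · intro u
    show A u = l * (l⁻¹ * A u)
    rw [mul_inv_cancel_left₀ hl]
  · intro t ht
    show C t = l * l ^ q * (l⁻¹ * A t)
    rw [← hCA t ht, mul_inv_cancel_left₀ hll]

end

end Cfsg.Agent.Lib.Helper5.U3Even
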