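import Mathlib
import Cfsg.Agent.Lib.Helper5.U3Even.Semilin
import Cfsg.Agent.Lib.Helper5.U3Even.IndexTwo
import Cfsg.Prelude.Def_Transfer
import Cfsg.Prelude.Def_Solvable

/-!
The automorphism group of the Sylow 2-subgroup of `SU₃(q)`, `q` even: order `2^(2n²) · 2n(q² - 1)` and
`O₂` elementary abelian of order `2^(2n²)` (author: helper5).
-/

set_option autoImplicit false

namespace Cfsg.Agent.Lib.Helper5.U3Even

open Cfsg Cfsg.Agent.Lib.Helper5

namespace Coords

variable {F : Type*} [Field F] [Fintype F] {q : ℕ} {X : Type*} [Group X] (c : Coords F q X)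

theorem exists_a_eq (hq : Even q) (hF : Fintype.card F = q ^ 2) (u : F) : ∃ x : X, c.a x = u := by
  obtain ⟨b0, hb0⟩ := exists_b hq hF u
  obtain ⟨x, hx, _⟩ := c.hsurj u b0 hb0
  exact ⟨x, hx⟩

/-- a section of `a` -/
noncomputable def sec (hq : Even q) (hF : Fintype.card F = q ^ 2) (u : F) : X :=
  Classical.choose (c.exists_a_eq hq hF u)

theorem a_sec (hq : Even q) (hF : Fintype.card F = q ^ 2) (u : F) : c.a (c.sec hq hF u) = u :=
  Classical.choose_spec (c.exists_a_eq hq hF u)

theorem exists_central (hq : Even q) (hF : Fintype.card F = q ^ 2) (t : F) :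
    ∃ y : X, t ^ q = t → (c.a y = 0 ∧ c.b y = t) := by
  have hq1 := Herm.one_lt_q hF
  by_cases ht : t ^ q = t
  · obtain ⟨y, hy1, hy2⟩ := c.hsurj 0 t (by rw [ht, zero_pow (by omega), mul_zero]; exact dbl hq hF t)
    exact ⟨y, fun _ => ⟨hy1, hy2⟩⟩
  · exact ⟨1, fun h => absurd h ht⟩

/-- central elements -/
noncomputable def zc (hq : Even q) (hF : Fintype.card F = q ^ 2) (t : F) : X :=
  Classical.choose (c.exists_central hq hF t)

theorem a_zc (hq : Even q) (hF : Fintype.card F = q ^ 2) (t : F) (ht : t ^ q = t) :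
    c.a (c.zc hq hF t) = 0 :=
  (Classical.choose_spec (c.exists_central hq hF t) ht).1

theorem b_zc (hq : Even q) (hF : Fintype.card F = q ^ 2) (t : F) (ht : t ^ q = t) :
    c.b (c.zc hq hF t) = t :=
  (Classical.choose_spec (c.exists_central hq hF t) ht).2

theorem b_fixed (hq : Even q) (hF : Fintype.card F = q ^ 2) (x : X) (hx : c.a x = 0) :
    (c.b x) ^ q = c.b x := by
  rw [← fix_iff hq hF]
  have := c.hcond x
  rw [hx, zero_mul] at this
  exact this

/-- the induced map on `X / Z(X) = F` -/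
noncomputable def indFun (hq : Even q) (hF : Fintype.card F = q ^ 2) (α : X ≃* X) (u : F) : F :=
  c.a (α (c.sec hq hF u))

theorem indFun_apply (hq : Even q) (hF : Fintype.card F = q ^ 2) (α : X ≃* X) (x : X) :
    c.indFun hq hF α (c.a x) = c.a (α x) :=
  c.a_aut_congr hq hF α _ _ (c.a_sec hq hF _)

theorem indFun_add (hq : Even q) (hF : Fintype.card F = q ^ 2) (α : X ≃* X) (u v : F) :
    c.indFun hq hF α (u + v) = c.indFun hq hF α u + c.indFun hq hF α v := by
  have h : u + v = c.a (c.sec hq hF u * c.sec hq hF v) := by rw [c.ha, c.a_sec, c.a_sec]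
  rw [h, c.indFun_apply, map_mul, c.ha, ← c.indFun_apply hq hF α (c.sec hq hF u),
    ← c.indFun_apply hq hF α (c.sec hq hF v), c.a_sec, c.a_sec]

theorem indFun_mul (hq : Even q) (hF : Fintype.card F = q ^ 2) (α β : MulAut X) (u : F) :
    c.indFun hq hF (α * β) u = c.indFun hq hF α (c.indFun hq hF β u) := by
  show c.a (α (β (c.sec hq hF u))) = _
  rw [← c.indFun_apply hq hF α]
  rfl

theorem indFun_one (hq : Even q) (hF : Fintype.card F = q ^ 2) (u : F) :
    c.indFun hq hF (1 : MulAut X) u = u :=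
  c.a_sec hq hF u

/-- the induced permutation of `F` -/
noncomputable def indPerm (hq : Even q) (hF : Fintype.card F = q ^ 2) (α : MulAut X) :
    Equiv.Perm F where
  toFun := c.indFun hq hF α
  invFun := c.indFun hq hF α⁻¹
  left_inv u := by rw [← c.indFun_mul, inv_mul_cancel, c.indFun_one]
  right_inv u := by rw [← c.indFun_mul, mul_inv_cancel, c.indFun_one]

/-- the induced action on `F` as a homomorphism -/
noncomputable def indHom (hq : Even q) (hF : Fintype.card F = q ^ 2) : MulAut X →* Equiv.Perm F where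
  toFun := c.indPerm hq hF
  map_one' := by
    ext u
    exact c.indFun_one hq hF u
  map_mul' α β := by
    ext u
    exact c.indFun_mul hq hF α β u

theorem indHom_apply (hq : Even q) (hF : Fintype.card F = q ^ 2) (α : MulAut X) (x : X) :
    c.indHom hq hF α (c.a x) = c.a (α x) :=
  c.indFun_apply hq hF α x

theorem mem_ker_indHom (hq : Even q) (hF : Fintype.card F = q ^ 2) (α : MulAut X) :
    α ∈ (c.indHom hq hF).ker ↔ ∀ x, c.a (α x) = c.a x := by
  rw [MonoidHom.mem_ker]
  constructor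
  · intro h x
    rw [← c.indHom_apply hq hF, h]
    rfl
  · intro h
    ext u
    show c.indHom hq hF α u = u
    rw [← c.a_sec hq hF u, c.indHom_apply, h]

/-- automorphisms are semilinear on the coordinates -/
theorem aut_semilinear (hq : Even q) (hF : Fintype.card F = q ^ 2) (α : MulAut X) :
    ∃ (l : F) (σ : F ≃+* F), l ≠ 0 ∧ (∀ x, c.a (α x) = l * σ (c.a x)) ∧
      ∀ x, c.a x = 0 → c.b (α x) = l * l ^ q * σ (c.b x) := by
  have hdbl := dbl hq hF
  have hinj : Function.Injective (c.indFun hq hF α) := by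
    intro u v huv
    have h := congrArg (c.indFun hq hF α⁻¹) huv
    rw [← c.indFun_mul, ← c.indFun_mul, inv_mul_cancel, c.indFun_one, c.indFun_one] at h
    exact h
  have hCadd : ∀ s t : F, s ^ q = s → t ^ q = t →
      c.b (α (c.zc hq hF (s + t))) = c.b (α (c.zc hq hF s)) + c.b (α (c.zc hq hF t)) := by
    intro s t hs ht
    have hst : (s + t) ^ q = s + t := by rw [Herm.frob_add hF, hs, ht]
    have : c.zc hq hF (s + t) = c.zc hq hF s * c.zc hq hF t := by
      apply c.hinj
      · rw [c.ha, c.a_zc hq hF _ hst, c.a_zc hq hF _ hs, c.a_zc hq hF _ ht, add_zero]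
      · rw [c.hb, c.b_zc hq hF _ hst, c.b_zc hq hF _ hs, c.b_zc hq hF _ ht, c.a_zc hq hF _ hs,
          zero_mul, add_zero]
    rw [this, map_mul, c.hb, c.a_aut_center hq hF α _ (c.a_zc hq hF _ hs), zero_mul, add_zero]
  have hnorm : ∀ u : F, c.indFun hq hF α u * c.indFun hq hF α u ^ q =
      c.b (α (c.zc hq hF (u * u ^ q))) := by
    intro u
    show c.a (α (c.sec hq hF u)) * c.a (α (c.sec hq hF u)) ^ q = c.b (α (c.zc hq hF (u * u ^ q)))
    have hN := norm_fixed hF u
    have : c.zc hq hF (u * u ^ q) = c.sec hq hF u * c.sec hq hF u := by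
      apply c.hinj
      · rw [c.ha, c.a_zc hq hF _ hN, c.a_sec, hdbl]
      · rw [c.hb, c.b_zc hq hF _ hN, c.a_sec, hdbl, zero_add]
    rw [this, map_mul, c.hb, hdbl, zero_add]
  obtain ⟨l, σ, hl, h1, h2⟩ := semilinear_of_norm hq hF (c.indFun hq hF α)
    (fun t => c.b (α (c.zc hq hF t))) (c.indFun_add hq hF α) hinj hCadd hnorm
  refine ⟨l, σ, hl, fun x => by rw [← h1, c.indFun_apply], fun x hx => ?_⟩
  have hbq := c.b_fixed hq hF x hx
  have : x = c.zc hq hF (c.b x) := by
    apply c.hinj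
    · rw [hx, c.a_zc hq hF _ hbq]
    · rw [c.b_zc hq hF _ hbq]
  have h3 := h2 (c.b x) hbq
  rw [← this] at h3
  exact h3

/-! ### the twisted scalings -/

theorem twist_cond (hF : Fintype.card F = q ^ 2) (l : F) (σ : F ≃+* F) (x : X) :
    l * l ^ q * σ (c.b x) + (l * l ^ q * σ (c.b x)) ^ q = l * σ (c.a x) * (l * σ (c.a x)) ^ q := by
  have := congrArg σ (c.hcond x)
  rw [map_add, map_mul, map_pow, map_pow] at this
  rw [mul_pow, mul_pow, mul_pow, Herm.frob_frob hF]
  linear_combination (l * l ^ q) * this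

/-- the twisted scaling map -/
noncomputable def twist (hF : Fintype.card F = q ^ 2) (l : F) (σ : F ≃+* F) (x : X) : X :=
  Classical.choose (c.hsurj _ _ (c.twist_cond hF l σ x))

theorem twist_a (hF : Fintype.card F = q ^ 2) (l : F) (σ : F ≃+* F) (x : X) :
    c.a (c.twist hF l σ x) = l * σ (c.a x) :=
  (Classical.choose_spec (c.hsurj _ _ (c.twist_cond hF l σ x))).1

theorem twist_b (hF : Fintype.card F = q ^ 2) (l : F) (σ : F ≃+* F) (x : X) :
    c.b (c.twist hF l σ x) = l * l ^ q * σ (c.b x) :=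
  (Classical.choose_spec (c.hsurj _ _ (c.twist_cond hF l σ x))).2

theorem twist_mul (hF : Fintype.card F = q ^ 2) (l : F) (σ : F ≃+* F) (x y : X) :
    c.twist hF l σ (x * y) = c.twist hF l σ x * c.twist hF l σ y := by
  apply c.hinj
  · rw [c.twist_a, c.ha, c.ha, c.twist_a, c.twist_a, map_add]; ring
  · rw [c.twist_b, c.hb, c.hb, c.twist_b, c.twist_b, c.twist_a, c.twist_a, map_add, map_add,
      map_mul, map_pow, mul_pow]
    ring

theorem twist_injective (hF : Fintype.card F = q ^ 2) (l : F) (hl : l ≠ 0) (σ : F ≃+* F) :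
    Function.Injective (c.twist hF l σ) := by
  intro x y hxy
  have h1 := congrArg c.a hxy
  have h2 := congrArg c.b hxy
  rw [c.twist_a, c.twist_a] at h1
  rw [c.twist_b, c.twist_b] at h2
  have hll : l * l ^ q ≠ 0 := mul_ne_zero hl (pow_ne_zero q hl)
  exact c.hinj x y (σ.injective (mul_left_cancel₀ hl h1)) (σ.injective (mul_left_cancel₀ hll h2))

/-- the twisted scaling automorphisms -/
noncomputable def twistAut [Finite X] (hF : Fintype.card F = q ^ 2) (l : Fˣ) (σ : F ≃+* F) :
    MulAut X :=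
  MulEquiv.ofBijective (MonoidHom.mk' (c.twist hF (l : F) σ) (c.twist_mul hF (l : F) σ))
    ⟨c.twist_injective hF (l : F) l.ne_zero σ,
      Finite.injective_iff_surjective.1 (c.twist_injective hF (l : F) l.ne_zero σ)⟩

theorem twistAut_apply [Finite X] (hF : Fintype.card F = q ^ 2) (l : Fˣ) (σ : F ≃+* F) (x : X) :
    c.twistAut hF l σ x = c.twist hF (l : F) σ x := rfl

theorem indHom_twistAut [Finite X] (hq : Even q) (hF : Fintype.card F = q ^ 2) (l : Fˣ)
    (σ : F ≃+* F) (u : F) : c.indHom hq hF (c.twistAut hF l σ) u = (l : F) * σ u := by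
  rw [← c.a_sec hq hF u, c.indHom_apply, c.twistAut_apply, c.twist_a]

end Coords

/-- the semilinear permutations of `F` -/
def gPerm {F : Type*} [Field F] (p : Fˣ × (F ≃+* F)) : Equiv.Perm F where
  toFun u := (p.1 : F) * p.2 u
  invFun u := p.2.symm (((p.1⁻¹ : Fˣ) : F) * u)
  left_inv u := by
    show p.2.symm (((p.1⁻¹ : Fˣ) : F) * ((p.1 : F) * p.2 u)) = u
    rw [← mul_assoc, ← Units.val_mul, inv_mul_cancel, Units.val_one, one_mul,
      RingEquiv.symm_apply_apply]
  right_inv u := by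
    show (p.1 : F) * p.2 (p.2.symm (((p.1⁻¹ : Fˣ) : F) * u)) = u
    rw [RingEquiv.apply_symm_apply, ← mul_assoc, ← Units.val_mul, mul_inv_cancel, Units.val_one,
      one_mul]

theorem gPerm_apply {F : Type*} [Field F] (p : Fˣ × (F ≃+* F)) (u : F) :
    gPerm p u = (p.1 : F) * p.2 u := rfl

theorem gPerm_injective {F : Type*} [Field F] : Function.Injective (gPerm (F := F)) := by
  rintro ⟨l, σ⟩ ⟨l', σ'⟩ h
  have h1 : ∀ u : F, (l : F) * σ u = (l' : F) * σ' u := fun u => by
    have := DFunLike.congr_fun h u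
    rwa [gPerm_apply, gPerm_apply] at this
  have hl : l = l' := by
    apply Units.ext
    have := h1 1
    rwa [map_one, map_one, mul_one, mul_one] at this
  subst hl
  have hσ : σ = σ' := by
    ext u
    exact mul_left_cancel₀ l.ne_zero (h1 u)
  rw [hσ]

namespace Coords

variable {F : Type*} [Field F] [Fintype F] {q : ℕ} {X : Type*} [Group X] (c : Coords F q X)

theorem range_indHom [Finite X] (hq : Even q) (hF : Fintype.card F = q ^ 2) :
    ((c.indHom hq hF).range : Set (Equiv.Perm F)) = Set.range (gPerm (F := F)) := by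
  ext π
  constructor
  · rintro ⟨α, rfl⟩
    obtain ⟨l, σ, hl, h1, _⟩ := c.aut_semilinear hq hF α
    refine ⟨⟨Units.mk0 l hl, σ⟩, ?_⟩
    ext u
    rw [gPerm_apply]
    show l * σ u = c.indHom hq hF α u
    rw [← c.a_sec hq hF u, c.indHom_apply, h1, c.a_sec]
  · rintro ⟨⟨l, σ⟩, rfl⟩
    refine ⟨c.twistAut hF l σ, ?_⟩
    ext u
    rw [c.indHom_twistAut, gPerm_apply]

theorem card_range_indHom [Finite X] (hq : Even q) (hF : Fintype.card F = q ^ 2) :
    Nat.card (c.indHom hq hF).range = Nat.card (Fˣ × (F ≃+* F)) := by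
  have h1 : Nat.card (c.indHom hq hF).range = Nat.card (Set.range (gPerm (F := F))) :=
    Nat.card_congr (Equiv.setCongr (c.range_indHom hq hF))
  rw [h1]
  exact (Nat.card_congr (Equiv.ofInjective _ gPerm_injective)).symm

end Coords


/-- number of additive maps between elementary abelian 2-groups -/
theorem card_addMonoidHom_two {A B : Type*} [AddCommGroup A] [AddCommGroup B] [Finite A] [Finite B]
    (hA : ∀ a : A, 2 • a = 0) (hB : ∀ b : B, 2 • b = 0) {r s : ℕ}
    (hcA : Nat.card A = 2 ^ r) (hcB : Nat.card B = 2 ^ s) : Nat.card (A →+ B) = 2 ^ (r * s) := by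
  classical
  let _ : Module (ZMod 2) A := AddCommGroup.zmodModule hA
  let _ : Module (ZMod 2) B := AddCommGroup.zmodModule hB
  have h1 : Nat.card (A →+ B) = Nat.card (A →ₗ[ZMod 2] B) :=
    Nat.card_congr (AddMonoidHom.toZModLinearMapEquiv 2).toEquiv
  have hc2 : Nat.card (ZMod 2) = 2 := by rw [Nat.card_eq_fintype_card, ZMod.card]
  have hrA : Module.finrank (ZMod 2) A = r := by
    have := Module.natCard_eq_pow_finrank (K := ZMod 2) (V := A)
    rw [hcA, hc2] at this
    exact (Nat.pow_right_injective (le_refl 2) this).symm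
  have hrB : Module.finrank (ZMod 2) B = s := by
    have := Module.natCard_eq_pow_finrank (K := ZMod 2) (V := B)
    rw [hcB, hc2] at this
    exact (Nat.pow_right_injective (le_refl 2) this).symm
  rw [h1, Module.natCard_eq_pow_finrank (K := ZMod 2) (V := A →ₗ[ZMod 2] B),
    Module.finrank_linearMap, hrA, hrB, hc2]

section
variable {F : Type*} [Field F] [Fintype F] {q : ℕ}

/-- the fixed field as an additive subgroup -/
def fixAdd (hF : Fintype.card F = q ^ 2) : AddSubgroup F where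
  carrier := {t | t ^ q = t}
  zero_mem' := by
    have hq1 := Herm.one_lt_q hF
    show (0 : F) ^ q = 0
    rw [zero_pow (by omega)]
  add_mem' := by
    intro s t hs ht
    show (s + t) ^ q = s + t
    rw [Herm.frob_add hF, show s ^ q = s from hs, show t ^ q = t from ht]
  neg_mem' := by
    intro s hs
    show (-s) ^ q = -s
    rw [Herm.frob_neg hF, show s ^ q = s from hs]

theorem mem_fixAdd (hF : Fintype.card F = q ^ 2) (t : F) : t ∈ fixAdd hF ↔ t ^ q = t := Iff.rfl

theorem card_fixAdd (hq : Even q) (hF : Fintype.card F = q ^ 2) : Nat.card (fixAdd hF) = q := by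
  have h := card_fixed hq hF
  rw [← Nat.card_congr (α := fixAdd hF) (β := {t : F // t + t ^ q = 0})
    ⟨fun t => ⟨t.1, (fix_iff hq hF t.1).2 t.2⟩, fun t => ⟨t.1, (fix_iff hq hF t.1).1 t.2⟩,
      fun t => rfl, fun t => rfl⟩] at h
  exact h

end

namespace Coords

variable {F : Type*} [Field F] [Fintype F] {q : ℕ} {X : Type*} [Group X] (c : Coords F q X)

/-! ### the central shifts -/

theorem shift_cond (hq : Even q) (hF : Fintype.card F = q ^ 2) (ζ : F →+ fixAdd hF) (x : X) :
    (c.b x + (ζ (c.a x) : F)) + (c.b x + (ζ (c.a x) : F)) ^ q = c.a x * (c.a x) ^ q := by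
  have h1 : ((ζ (c.a x) : F)) ^ q = (ζ (c.a x) : F) := (ζ (c.a x)).2
  rw [Herm.frob_add hF, h1]
  linear_combination c.hcond x + dbl hq hF (ζ (c.a x) : F)

/-- the central shift maps -/
noncomputable def shift (hq : Even q) (hF : Fintype.card F = q ^ 2) (ζ : F →+ fixAdd hF) (x : X) : X :=
  Classical.choose (c.hsurj _ _ (c.shift_cond hq hF ζ x))

theorem shift_a (hq : Even q) (hF : Fintype.card F = q ^ 2) (ζ : F →+ fixAdd hF) (x : X) :
    c.a (c.shift hq hF ζ x) = c.a x :=
  (Classical.choose_spec (c.hsurj _ _ (c.shift_cond hq hF ζ x))).1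

theorem shift_b (hq : Even q) (hF : Fintype.card F = q ^ 2) (ζ : F →+ fixAdd hF) (x : X) :
    c.b (c.shift hq hF ζ x) = c.b x + (ζ (c.a x) : F) :=
  (Classical.choose_spec (c.hsurj _ _ (c.shift_cond hq hF ζ x))).2

theorem shift_mul (hq : Even q) (hF : Fintype.card F = q ^ 2) (ζ : F →+ fixAdd hF) (x y : X) :
    c.shift hq hF ζ (x * y) = c.shift hq hF ζ x * c.shift hq hF ζ y := by
  apply c.hinj
  · rw [c.shift_a, c.ha, c.ha, c.shift_a, c.shift_a]
  · rw [c.shift_b, c.hb, c.hb, c.shift_b, c.shift_b, c.shift_a, c.shift_a, c.ha, map_add,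
      AddSubgroup.coe_add]
    ring

theorem shift_shift (hq : Even q) (hF : Fintype.card F = q ^ 2) (ζ ζ' : F →+ fixAdd hF) (x : X) :
    c.shift hq hF ζ (c.shift hq hF ζ' x) = c.shift hq hF (ζ + ζ') x := by
  apply c.hinj
  · rw [c.shift_a, c.shift_a, c.shift_a]
  · rw [c.shift_b, c.shift_b, c.shift_a, c.shift_b, AddMonoidHom.add_apply, AddSubgroup.coe_add]
    ring

theorem shift_zero (hq : Even q) (hF : Fintype.card F = q ^ 2) (x : X) :
    c.shift hq hF 0 x = x := by
  apply c.hinj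
  · rw [c.shift_a]
  · rw [c.shift_b, AddMonoidHom.zero_apply, AddSubgroup.coe_zero, add_zero]

theorem add_self_hom (hq : Even q) (hF : Fintype.card F = q ^ 2) (ζ : F →+ fixAdd hF) :
    ζ + ζ = 0 := by
  ext u
  rw [AddMonoidHom.add_apply, AddSubgroup.coe_add, AddMonoidHom.zero_apply, AddSubgroup.coe_zero]
  exact dbl hq hF _

/-- the central shift automorphisms -/
noncomputable def shiftAut (hq : Even q) (hF : Fintype.card F = q ^ 2) (ζ : F →+ fixAdd hF) :
    MulAut X where
  toFun := c.shift hq hF ζ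
  invFun := c.shift hq hF ζ
  left_inv x := by rw [c.shift_shift, add_self_hom hq hF, c.shift_zero]
  right_inv x := by rw [c.shift_shift, add_self_hom hq hF, c.shift_zero]
  map_mul' := c.shift_mul hq hF ζ

theorem shiftAut_apply (hq : Even q) (hF : Fintype.card F = q ^ 2) (ζ : F →+ fixAdd hF) (x : X) :
    c.shiftAut hq hF ζ x = c.shift hq hF ζ x := rfl

theorem shiftAut_mul (hq : Even q) (hF : Fintype.card F = q ^ 2) (ζ ζ' : F →+ fixAdd hF) :
    c.shiftAut hq hF ζ * c.shiftAut hq hF ζ' = c.shiftAut hq hF (ζ + ζ') := by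
  ext x
  show c.shift hq hF ζ (c.shift hq hF ζ' x) = c.shift hq hF (ζ + ζ') x
  rw [c.shift_shift]

theorem shiftAut_injective (hq : Even q) (hF : Fintype.card F = q ^ 2) :
    Function.Injective (c.shiftAut hq hF) := by
  intro ζ ζ' h
  ext u
  have h1 := congrArg c.b (DFunLike.congr_fun h (c.sec hq hF u))
  rw [c.shiftAut_apply, c.shiftAut_apply, c.shift_b, c.shift_b, c.a_sec] at h1
  exact add_left_cancel h1

theorem shiftAut_mem_ker (hq : Even q) (hF : Fintype.card F = q ^ 2) (ζ : F →+ fixAdd hF) :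
    c.shiftAut hq hF ζ ∈ (c.indHom hq hF).ker := by
  rw [c.mem_ker_indHom]
  intro x
  rw [c.shiftAut_apply, c.shift_a]

/-- every automorphism trivial on `X / Z(X)` is a central shift -/
theorem exists_shift_of_mem_ker (hq : Even q) (hF : Fintype.card F = q ^ 2) (κ : MulAut X)
    (hκ : κ ∈ (c.indHom hq hF).ker) : ∃ ζ : F →+ fixAdd hF, c.shiftAut hq hF ζ = κ := by
  rw [c.mem_ker_indHom] at hκ
  have hdbl := dbl hq hF
  -- `κ` fixes the centre
  have hcen : ∀ z, c.a z = 0 → c.b (κ z) = c.b z := by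
    obtain ⟨l, σ, hl, h1, h2⟩ := c.aut_semilinear hq hF κ
    have hl1 : l = 1 := by
      have := h1 (c.sec hq hF 1)
      rw [hκ, c.a_sec, map_one, mul_one] at this
      exact this.symm
    have hσ : ∀ u, σ u = u := by
      intro u
      have := h1 (c.sec hq hF u)
      rw [hκ, c.a_sec, hl1, one_mul] at this
      exact this.symm
    intro z hz
    rw [h2 z hz, hl1, hσ, one_pow, one_mul, one_mul]
  set β : X → F := fun x => c.b (κ x) - c.b x with hβ
  have hβmul : ∀ x y, β (x * y) = β x + β y := by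
    intro x y
    simp only [hβ]
    rw [map_mul, c.hb, c.hb, hκ, hκ]
    ring
  have hβcen : ∀ z, c.a z = 0 → β z = 0 := by
    intro z hz
    simp only [hβ]
    rw [hcen z hz, sub_self]
  have hβfix : ∀ x, (β x) ^ q = β x := by
    intro x
    rw [← fix_iff hq hF]
    simp only [hβ]
    have h1 := c.hcond (κ x)
    have h2 := c.hcond x
    rw [hκ] at h1
    rw [Herm.frob_sub hF]
    linear_combination h1 - h2
  have hβcongr : ∀ x y, c.a x = c.a y → β x = β y := by
    intro x y hxy
    have hz : c.a (x⁻¹ * y) = 0 := by rw [c.ha, c.a_inv, hxy]; ring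
    have : y = x * (x⁻¹ * y) := by group
    rw [this, hβmul, hβcen _ hz, add_zero]
  let ζ : F →+ fixAdd hF :=
    { toFun := fun u => ⟨β (c.sec hq hF u), hβfix _⟩
      map_zero' := by
        apply Subtype.ext
        show β (c.sec hq hF 0) = 0
        exact hβcen _ (c.a_sec hq hF 0)
      map_add' := by
        intro u v
        apply Subtype.ext
        show β (c.sec hq hF (u + v)) = β (c.sec hq hF u) + β (c.sec hq hF v)
        rw [← hβmul]
        apply hβcongr
        rw [c.ha, c.a_sec, c.a_sec, c.a_sec] }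
  refine ⟨ζ, ?_⟩
  ext x
  apply c.hinj
  · rw [c.shiftAut_apply, c.shift_a, hκ]
  · rw [c.shiftAut_apply, c.shift_b]
    show c.b x + β (c.sec hq hF (c.a x)) = c.b (κ x)
    rw [hβcongr (c.sec hq hF (c.a x)) x (c.a_sec hq hF _)]
    simp only [hβ]
    ring

theorem card_ker_indHom [Finite X] {n : ℕ} (hqn : q = 2 ^ n) (hq : Even q)
    (hF : Fintype.card F = q ^ 2) : Nat.card (c.indHom hq hF).ker = 2 ^ (2 * n ^ 2) := by
  have h1 : Nat.card (c.indHom hq hF).ker = Nat.card (F →+ fixAdd hF) := by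
    symm
    apply Nat.card_congr
    refine Equiv.ofBijective (fun ζ => ⟨c.shiftAut hq hF ζ, c.shiftAut_mem_ker hq hF ζ⟩) ⟨?_, ?_⟩
    · intro ζ ζ' h
      exact c.shiftAut_injective hq hF (congrArg Subtype.val h)
    · rintro ⟨κ, hκ⟩
      obtain ⟨ζ, hζ⟩ := c.exists_shift_of_mem_ker hq hF κ hκ
      exact ⟨ζ, Subtype.ext hζ⟩
  rw [h1]
  have hdbl := dbl hq hF
  have := card_addMonoidHom_two (A := F) (B := fixAdd hF) (r := 2 * n) (s := n)
    (fun a => by rw [two_nsmul]; exact hdbl a)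
    (fun b => by
      apply Subtype.ext
      rw [two_nsmul, AddSubgroup.coe_add, AddSubgroup.coe_zero]
      exact hdbl _)
    (by rw [Nat.card_eq_fintype_card, hF, hqn, ← pow_mul, mul_comm])
    (by rw [card_fixAdd hq hF, hqn])
  rw [this]
  congr 1
  ring

theorem ker_elemAb (hq : Even q) (hF : Fintype.card F = q ^ 2) :
    Cfsg.IsElementaryAbelian 2 (c.indHom hq hF).ker := by
  refine ⟨⟨⟨fun x y => ?_⟩⟩, fun κ hκ => ?_⟩
  · obtain ⟨ζ, hζ⟩ := c.exists_shift_of_mem_ker hq hF x.1 x.2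
    obtain ⟨ζ', hζ'⟩ := c.exists_shift_of_mem_ker hq hF y.1 y.2
    apply Subtype.ext
    show x.1 * y.1 = y.1 * x.1
    rw [← hζ, ← hζ', c.shiftAut_mul, c.shiftAut_mul, add_comm]
  · obtain ⟨ζ, hζ⟩ := c.exists_shift_of_mem_ker hq hF κ hκ
    rw [← hζ, pow_two, c.shiftAut_mul, add_self_hom hq hF]
    ext x
    exact c.shift_zero hq hF x

/-- scalars of `2`-power order are trivial -/
theorem eq_one_of_pow_two_pow (hq : Even q) (hF : Fintype.card F = q ^ 2) (x : F) (hx : x ≠ 0)
    (k : ℕ) (hk : x ^ (2 ^ k) = 1) : x = 1 := by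
  have h1 : x ^ (q ^ 2 - 1) = 1 := by
    rw [← hF]
    exact FiniteField.pow_card_sub_one_eq_one x hx
  have hcop : Nat.Coprime (2 ^ k) (q ^ 2 - 1) := by
    apply Nat.Coprime.pow_left
    rw [Nat.coprime_two_left]
    obtain ⟨m, rfl⟩ := hq
    have hq1 := Herm.one_lt_q hF
    have : 1 ≤ (m + m) ^ 2 := Nat.one_le_pow _ _ (by omega)
    rw [Nat.odd_iff]
    have h4 : (m + m) ^ 2 = 2 * (2 * m * m) := by ring
    omega
  have h2 : orderOf x ∣ 1 := by
    rw [← hcop]
    exact Nat.dvd_gcd (orderOf_dvd_of_pow_eq_one hk) (orderOf_dvd_of_pow_eq_one h1)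
  exact orderOf_eq_one_iff.1 (Nat.dvd_one.1 h2)

theorem indHom_pow_apply (hq : Even q) (hF : Fintype.card F = q ^ 2) (γ : MulAut X) (d : F)
    (hγ : ∀ u, c.indHom hq hF γ u = d * u) (k : ℕ) (u : F) :
    c.indHom hq hF (γ ^ k) u = d ^ k * u := by
  induction k generalizing u with
  | zero => rw [pow_zero, pow_zero, one_mul, (c.indHom hq hF).map_one]; rfl
  | succ k ih =>
    rw [pow_succ, (c.indHom hq hF).map_mul, Equiv.Perm.mul_apply, hγ, ih, pow_succ]
    ring

/-- normal `2`-subgroups of the automorphism group act trivially on `X / Z(X)` -/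
theorem le_ker_of_normal_two [Finite X] (hq : Even q) (hF : Fintype.card F = q ^ 2)
    (N : Subgroup (MulAut X)) (hN : N.Normal) (hN2 : IsPGroup 2 N) :
    N ≤ (c.indHom hq hF).ker := by
  intro α hα
  obtain ⟨l, σ, hl, h1, _⟩ := c.aut_semilinear hq hF α
  have hα1 : ∀ u, c.indHom hq hF α u = l * σ u := by
    intro u
    rw [← c.a_sec hq hF u, c.indHom_apply, h1]
  -- `σ` is trivial
  have hσ : ∀ m : F, σ m = m := by
    intro m
    by_cases hm : m = 0
    · rw [hm, map_zero]
    let μ : Fˣ := Units.mk0 m hm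
    set τ : MulAut X := c.twistAut hF μ (RingEquiv.refl F) with hτ
    have hτ1 : ∀ u, c.indHom hq hF τ u = m * u := by
      intro u
      rw [hτ, c.indHom_twistAut]
      rfl
    obtain ⟨γ, hγ⟩ : ∃ γ : MulAut X, γ = α * τ * α⁻¹ * τ⁻¹ := ⟨_, rfl⟩
    have hγN : γ ∈ N := by
      have h2 : τ * α⁻¹ * τ⁻¹ ∈ N := hN.conj_mem _ (N.inv_mem hα) τ
      have : γ = α * (τ * α⁻¹ * τ⁻¹) := by rw [hγ]; group
      rw [this]
      exact N.mul_mem hα h2
    have hγ1 : ∀ u, c.indHom hq hF γ u = (σ m / m) * u := by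
      intro w
      have hrel : γ * τ * α = α * τ := by rw [hγ]; group
      obtain ⟨u, rfl⟩ : ∃ u, m * (l * σ u) = w := by
        refine ⟨σ.symm (l⁻¹ * (m⁻¹ * w)), ?_⟩
        rw [RingEquiv.apply_symm_apply]
        field_simp
      have h3 := DFunLike.congr_fun (congrArg (c.indHom hq hF) hrel) u
      rw [(c.indHom hq hF).map_mul, (c.indHom hq hF).map_mul, (c.indHom hq hF).map_mul,
        Equiv.Perm.mul_apply, Equiv.Perm.mul_apply, Equiv.Perm.mul_apply, hα1, hτ1, hτ1, hα1,
        map_mul σ] at h3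
      rw [h3]
      field_simp
    obtain ⟨k, hk⟩ := hN2 ⟨γ, hγN⟩
    have hk' : γ ^ (2 ^ k) = 1 := by
      have := congrArg Subtype.val hk
      rwa [Subgroup.coe_pow] at this
    have h4 := c.indHom_pow_apply hq hF γ _ hγ1 (2 ^ k) 1
    rw [hk', (c.indHom hq hF).map_one, Equiv.Perm.one_apply, mul_one] at h4
    have hσm : σ m ≠ 0 := fun h => hm (σ.injective (by rw [h, map_zero]))
    have h5 := eq_one_of_pow_two_pow hq hF (σ m / m) (div_ne_zero hσm hm) k h4.symm
    exact (div_eq_one_iff_eq hm).1 h5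
  have hα2 : ∀ u, c.indHom hq hF α u = l * u := fun u => by rw [hα1, hσ]
  obtain ⟨k, hk⟩ := hN2 ⟨α, hα⟩
  have hk' : α ^ (2 ^ k) = 1 := by
    have := congrArg Subtype.val hk
    rwa [Subgroup.coe_pow] at this
  have h4 := c.indHom_pow_apply hq hF α _ hα2 (2 ^ k) 1
  rw [hk', (c.indHom hq hF).map_one, Equiv.Perm.one_apply, mul_one] at h4
  have hl1 := eq_one_of_pow_two_pow hq hF l hl k h4.symm
  rw [c.mem_ker_indHom]
  intro x
  rw [h1, hσ, hl1, one_mul]

theorem pCore_eq_ker [Finite X] (hq : Even q) (hF : Fintype.card F = q ^ 2) :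
    Cfsg.pCore 2 (MulAut X) = (c.indHom hq hF).ker := by
  apply le_antisymm
  · apply sSup_le
    rintro N ⟨hN, hN2⟩
    exact c.le_ker_of_normal_two hq hF N hN hN2
  · apply le_sSup
    refine ⟨inferInstance, ?_⟩
    intro κ
    refine ⟨1, ?_⟩
    apply Subtype.ext
    rw [Subgroup.coe_pow, pow_one]
    exact (c.ker_elemAb hq hF).2 κ.1 κ.2

theorem card_ringAut_two {F : Type*} [Field F] [Fintype F] (h2 : (2 : F) = 0) (k : ℕ)
    (hF : Fintype.card F = 2 ^ k) : Nat.card (F ≃+* F) = k := by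
  have : CharP F 2 := CharTwo.of_one_ne_zero_of_two_eq_zero one_ne_zero h2
  let _ : Algebra (ZMod 2) F := ZMod.algebra F 2
  have h1 : Module.finrank (ZMod 2) F = k := by
    have := Module.card_eq_pow_finrank (K := ZMod 2) (V := F)
    rw [hF, ZMod.card] at this
    exact (Nat.pow_right_injective (le_refl 2) this).symm
  have h2 := IsGalois.card_aut_eq_finrank (ZMod 2) F
  rw [h1] at h2
  rw [← h2]
  apply Nat.card_congr
  refine ⟨fun ψ => AlgEquiv.ofRingEquiv (f := ψ) (fun r => ?_), fun e => e.toRingEquiv, ?_, ?_⟩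
  · have : (ψ : F →+* F).comp (algebraMap (ZMod 2) F) = algebraMap (ZMod 2) F :=
      Subsingleton.elim _ _
    exact DFunLike.congr_fun this r
  · intro ψ; rfl
  · intro e; rfl

include c in
/-- the automorphism group of the Sylow `2`-subgroup of `SU₃(2ⁿ)` -/
theorem aut_main [Finite X] {n : ℕ} (hqn : q = 2 ^ n) (hq : Even q)
    (hF : Fintype.card F = q ^ 2) :
    Cfsg.IsElementaryAbelian 2 (Cfsg.pCore 2 (MulAut X)) ∧
      Nat.card ↥(Cfsg.pCore 2 (MulAut X)) = 2 ^ (2 * n ^ 2) ∧
      Nat.card (MulAut X) = 2 ^ (2 * n ^ 2) * (2 * n * (q ^ 2 - 1)) := by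
  rw [c.pCore_eq_ker hq hF]
  refine ⟨c.ker_elemAb hq hF, c.card_ker_indHom hqn hq hF, ?_⟩
  rw [Subgroup.card_eq_card_quotient_mul_card_subgroup (c.indHom hq hF).ker,
    c.card_ker_indHom hqn hq hF,
    Nat.card_congr (QuotientGroup.quotientKerEquivRange (c.indHom hq hF)).toEquiv,
    c.card_range_indHom hq hF, Nat.card_prod, Nat.card_units, Nat.card_eq_fintype_card, hF,
    card_ringAut_two (two_eq_zero hq hF) (2 * n) (by rw [hF, hqn, ← pow_mul, mul_comm])]
  ring

end Coords

end Cfsg.Agent.Lib.Helper5.U3Even
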